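import Groth.Agent.Lib.DiagGL.Chars
import Groth.Prelude.Def_Red

/-! # Rational points of a torus commute -/

set_option autoImplicit false
set_option linter.style.haveILetI false
set_option backward.isDefEq.respectTransparency.types false
universe u

open CategoryTheory Limits MonoidalCategory CartesianMonoidalCategory MonObj AlgebraicGeometry

noncomputable section

namespace Groth.Agent.WtMu19

variable {k : Type u} [Field k]

theorem pts_comm {T : Over (Spec (CommRingCat.of k))} [GrpObj T] (hT : Red.IsTorus T)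
    (γ δ : 𝟙_ (Over (Spec (CommRingCat.of k))) ⟶ T) : γ * δ = δ * γ := by
  obtain ⟨S', f, hf, hsurj, -, hloc⟩ := hT
  obtain ⟨s', -⟩ := hsurj.surj (Classical.arbitrary (Spec (CommRingCat.of k) : Scheme.{u}))
  obtain ⟨U, hU, r, hr⟩ := hloc s'
  obtain ⟨C⟩ := DiagGL.nonempty_chars hr
  let g : (U : Scheme.{u}) ⟶ Spec (CommRingCat.of k) := U.ι ≫ f
  haveI : Nonempty (U : Scheme.{u}) := ⟨⟨s', hU⟩⟩
  haveI : Subsingleton (Spec (CommRingCat.of k) : Scheme.{u}) :=
    inferInstanceAs (Subsingleton (PrimeSpectrum k))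
  haveI : Surjective g := ⟨fun y => ⟨Classical.arbitrary _, Subsingleton.elim _ _⟩⟩
  haveI : Flat g := inferInstanceAs (Flat (U.ι ≫ f))
  have key : (Over.pullback g).map (γ * δ) = (Over.pullback g).map (δ * γ) := by
    rw [Functor.map_mul, Functor.map_mul]
    exact C.inj fun a => by rw [C.mul, C.mul, _root_.mul_comm]
  have h1 : pullback.fst (𝟙_ (Over (Spec (CommRingCat.of k)))).hom g ≫ (γ * δ).left =
      pullback.fst (𝟙_ (Over (Spec (CommRingCat.of k)))).hom g ≫ (δ * γ).left := by
    have e := congrArg (fun m => CommaMorphism.left m ≫ pullback.fst T.hom g) key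
    simp only [Over.pullback] at e
    exact (pullback.lift_fst _ _ _).symm.trans (e.trans (pullback.lift_fst _ _ _))
  haveI : Epi (pullback.fst (𝟙_ (Over (Spec (CommRingCat.of k)))).hom g) := Flat.epi_of_flat_of_surjective _
  exact Over.OverMorphism.ext ((cancel_epi _).1 h1)

end Groth.Agent.WtMu19
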