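import Groth.Agent.Lib.WtMu19.Op
import Groth.Agent.Lib.WtMu19.Comm
import Groth.Agent.Lib.SimDiag.Basic
import Mathlib.LinearAlgebra.Dual.Lemmas

/-! # Joint eigenfunctions of a torus on homogeneous functions -/

set_option autoImplicit false
set_option linter.style.haveILetI false
set_option backward.isDefEq.respectTransparency.types false
universe u

open CategoryTheory Limits MonoidalCategory CartesianMonoidalCategory MonObj AlgebraicGeometry
open scoped TensorProduct

noncomputable section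

namespace Groth.Agent.WtMu19

open FixLine19 (sp str)

attribute [local instance] HomSch19.algW

variable {k : Type u} [Field k] [Infinite k]
  {G X : Over (Spec (CommRingCat.of k))} [GrpObj G] {a : AlgGrp.Action G X} (B : GLinSh.LinBun G a)
  [CompactSpace X.left]

theorem sum_zp_ptU (u : kˣ) {T : Over (Spec (CommRingCat.of k))} (h : ℤ →₀ Γ(B.V.left, ⊤)) (v : T ⟶ B.V) :
    (h.sum fun n x => zp (toUnit T ≫ ptU u) n * v.left.appTop x) =
      (h.mapRange v.left.appTop (map_zero _)).sum fun n x => ((u ^ n : kˣ) : k) • x := by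
  rw [Finsupp.sum_mapRange_index (fun _ => smul_zero _)]
  refine Finsupp.sum_congr fun n _ => ?_
  rw [zp_nat, zp_ptU, str_nat, smul_eq_str]

omit [Infinite k] in
theorem Op_ptU (l : Red.Gm (Spec (CommRingCat.of k)) ⟶ G) (f : Γ(B.V.left, ⊤)) (h : ℤ →₀ Γ(B.V.left, ⊤))
    (hh : ∀ (T : Over (Spec (CommRingCat.of k))) (g : T ⟶ Red.Gm _) (v : T ⟶ B.V),
      (lift (g ≫ l) v ≫ B.lift.act).left.appTop f = h.sum fun n x => zp g n * v.left.appTop x) (u : kˣ) :
    Op B (ptU u ≫ l) f = h.sum fun n x => ((u ^ n : kˣ) : k) • x := by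
  rw [Op_apply, ← Category.assoc, hh]
  refine Finsupp.sum_congr fun n _ => ?_
  rw [zp_nat, zp_ptU, str_nat, smul_eq_str]
  simp

/-- The coefficients of a homogeneous function are homogeneous. -/
theorem homog_coeff {N : ℕ} {f : Γ(B.V.left, ⊤)} (hf : Homog B N f)
    (l : Red.Gm (Spec (CommRingCat.of k)) ⟶ G) (h : ℤ →₀ Γ(B.V.left, ⊤))
    (hh : ∀ (T : Over (Spec (CommRingCat.of k))) (g : T ⟶ Red.Gm _) (v : T ⟶ B.V),
      (lift (g ≫ l) v ≫ B.lift.act).left.appTop f = h.sum fun n x => zp g n * v.left.appTop x) (m : ℤ) :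
    Homog B N (h m) := by
  intro T hT v v' s hs
  have key : h.mapRange v'.left.appTop (map_zero _) =
      (h.mapRange v.left.appTop (map_zero _)).mapRange (s ^ N * ·) (mul_zero _) := by
    refine sum_pow_smul_ext (k := k) fun u => ?_
    have e := hf hT _ _ s (hs.translate B hT ((toUnit T ≫ ptU u) ≫ l))
    rw [hh, hh, sum_zp_ptU, sum_zp_ptU] at e
    refine e.trans ?_
    rw [Finsupp.mul_sum, Finsupp.sum_mapRange_index (h := fun n x => ((u ^ n : kˣ) : k) • x) (fun _ => smul_zero _)]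
    exact Finsupp.sum_congr fun n _ => mul_smul_comm _ _ _
  simpa using DFunLike.congr_fun key m

omit [Infinite k] in
theorem sum_eq_self (l : Red.Gm (Spec (CommRingCat.of k)) ⟶ G) [IsMonHom l] (f : Γ(B.V.left, ⊤))
    (h : ℤ →₀ Γ(B.V.left, ⊤))
    (hh : ∀ (T : Over (Spec (CommRingCat.of k))) (g : T ⟶ Red.Gm _) (v : T ⟶ B.V),
      (lift (g ≫ l) v ≫ B.lift.act).left.appTop f = h.sum fun n x => zp g n * v.left.appTop x) :
    (h.sum fun _ x => x) = f := by
  have e := Op_ptU B l f h hh 1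
  rw [ptU_one, MonObj.one_comp, Op_one] at e
  simpa using e.symm

/-- The coefficients are eigenvectors of the operators of the one-parameter subgroup. -/
theorem Op_coeff (l : Red.Gm (Spec (CommRingCat.of k)) ⟶ G) [IsMonHom l] (f : Γ(B.V.left, ⊤))
    (h : ℤ →₀ Γ(B.V.left, ⊤))
    (hh : ∀ (T : Over (Spec (CommRingCat.of k))) (g : T ⟶ Red.Gm _) (v : T ⟶ B.V),
      (lift (g ≫ l) v ≫ B.lift.act).left.appTop f = h.sum fun n x => zp g n * v.left.appTop x)
    (u : kˣ) (m : ℤ) : Op B (ptU u ≫ l) (h m) = ((u ^ m : kˣ) : k) • h m := by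
  have key : h.mapRange (Op B (ptU u ≫ l)) (map_zero _) =
      Finsupp.mapRange.addMonoidHom (AddMonoidHom.id _) h +
        (Finsupp.onFinset h.support (fun n => ((u ^ n : kˣ) : k) • h n - h n) fun n hn => by
          rw [Finsupp.mem_support_iff]; intro h0; simp [h0] at hn) := by
    refine sum_pow_smul_ext (k := k) fun u' => ?_
    rw [Finsupp.sum_add_index' (fun _ => smul_zero _) (fun _ _ _ => smul_add _ _ _),
      Finsupp.sum_mapRange_index (fun _ => smul_zero _),
      Finsupp.onFinset_sum _ (fun _ => smul_zero _)]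
    have e : Op B (ptU u ≫ l) (Op B (ptU u' ≫ l) f) = Op B (ptU (u' * u) ≫ l) f := by
      rw [Op_Op, ← MonObj.mul_comp, ← ptU_mul]
    rw [Op_ptU B l f h hh, Op_ptU B l f h hh, map_finsuppSum] at e
    simp only [map_smul] at e
    rw [e, Finsupp.mapRange.addMonoidHom_apply, Finsupp.sum_mapRange_index (fun _ => smul_zero _),
      Finsupp.sum, Finsupp.sum, ← Finset.sum_add_distrib]
    refine Finset.sum_congr rfl fun n _ => ?_
    rw [AddMonoidHom.id_apply, ← smul_add, add_sub_cancel, mul_zpow, Units.val_mul, mul_smul]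
  simpa using DFunLike.congr_fun key m

/-- Homogeneous joint eigenfunctions of the one-parameter subgroups of a torus. -/
def Good {Tt : Over (Spec (CommRingCat.of k))} [GrpObj Tt] (i : Tt ⟶ G) (N : ℕ) (h : Γ(B.V.left, ⊤)) : Prop :=
  Homog B N h ∧ ∀ (l : Red.Gm (Spec (CommRingCat.of k)) ⟶ Tt) [IsMonHom l], ∃ e : ℤ, Eig B (l ≫ i) h e

theorem exists_eig_of_scalar (l : Red.Gm (Spec (CommRingCat.of k)) ⟶ G) [IsMonHom l] (f : Γ(B.V.left, ⊤))
    (hev : ∀ u : kˣ, ∃ c : k, Op B (ptU u ≫ l) f = c • f) : ∃ e : ℤ, Eig B l f e := by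
  by_cases hf : f = 0
  · exact ⟨0, fun T g v => by rw [hf, map_zero, map_zero, mul_zero]⟩
  obtain ⟨h, hh⟩ := exists_expansion B l f
  obtain ⟨φ, hφ⟩ : ∃ φ : Module.Dual k Γ(B.V.left, ⊤), φ f = 1 := by
    obtain ⟨ψ, hψ⟩ := not_forall.1 ((not_congr (Module.forall_dual_apply_eq_zero_iff k f)).2 hf)
    exact ⟨(ψ f)⁻¹ • ψ, by simp [hψ]⟩
  let c := h.mapRange φ (map_zero φ)
  have hc : ∀ u : kˣ, Op B (ptU u ≫ l) f = kv (ev (ptU u) c) • f := by
    intro u
    obtain ⟨r, hr⟩ := hev u
    suffices r = kv (ev (ptU u) c) by rwa [this] at hr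
    have e := congrArg φ hr
    rw [Op_ptU B l f h hh, map_finsuppSum, map_smul, hφ, smul_eq_mul, _root_.mul_one] at e
    rw [kv_ev, Finsupp.sum_mapRange_index (fun _ => by simp), ← e]
    refine Finsupp.sum_congr fun n _ => ?_
    rw [map_smul, smul_eq_mul, mul_comm]
  obtain ⟨e, he⟩ := exists_eq_single (c := c)
    (smul_left_injective k hf (by
      show kv (ev (ptU 1) c) • f = (1 : k) • f
      rw [← hc, ptU_one, MonObj.one_comp, Op_one, one_smul]))
    (fun u u' => smul_left_injective k hf (by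
      show kv (ev (ptU (u * u')) c) • f = (kv (ev (ptU u) c) * kv (ev (ptU u') c)) • f
      rw [← hc, ptU_mul, MonObj.mul_comp, ← Op_Op, hc u, map_smul, hc u', smul_smul]))
  refine ⟨e, ?_⟩
  have hsingle : h = Finsupp.single e f := by
    refine sum_pow_smul_ext (k := k) fun u => ?_
    rw [← Op_ptU B l f h hh u, hc u, Finsupp.sum_single_index (h := fun n x => ((u ^ n : kˣ) : k) • x) (smul_zero _),
      he, kv_ev, Finsupp.sum_single_index (h := fun n b => b * ((u ^ n : kˣ) : k)) (by simp), _root_.one_mul]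
  intro T g v
  rw [hh, hsingle, Finsupp.sum_single_index (by simp)]

variable {Tt : Over (Spec (CommRingCat.of k))} [GrpObj Tt]

/-- A homogeneous function is a combination of homogeneous joint eigenfunctions. -/
theorem mem_span_good [IsAffine G.left] (hT : Red.IsTorus Tt) (i : Tt ⟶ G) [IsMonHom i]
    {N : ℕ} {f : Γ(B.V.left, ⊤)} (hf : Homog B N f) :
    f ∈ Submodule.span k {h | Good B i N h} := by
  let M := homogS B N
  let ι' := {l : Red.Gm (Spec (CommRingCat.of k)) ⟶ Tt // IsMonHom l} × kˣ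
  let op : ι' → Module.End k M := fun j =>
    (Op B (ptU j.2 ≫ j.1.1 ≫ i)).restrict (p := M) (q := M) fun x hx => Op_mem B hx _
  have hcomm : ∀ j j', Commute (op j) (op j') := by
    intro j j'
    refine LinearMap.ext fun x => Subtype.ext ?_
    show Op B _ (Op B _ x.1) = Op B _ (Op B _ x.1)
    rw [Op_Op, Op_Op, ← Category.assoc, ← Category.assoc, ← MonObj.mul_comp, ← MonObj.mul_comp,
      pts_comm hT]
  have hdiag : ∀ j, ⨆ c : k, Module.End.eigenspace ((op j).restrictScalars k) c = ⊤ := by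
    rintro ⟨⟨l, hl⟩, u⟩
    haveI := hl
    rw [eq_top_iff]
    rintro ⟨x, hx⟩ -
    obtain ⟨h, hh⟩ := exists_expansion B (l ≫ i) x
    have e : (⟨x, hx⟩ : M) = ∑ m ∈ h.support, (⟨h m, homog_coeff B hx _ h hh m⟩ : M) := by
      refine Subtype.ext ?_
      rw [Submodule.coe_sum]
      exact (sum_eq_self B (l ≫ i) x h hh).symm
    rw [e]
    refine Submodule.sum_mem _ fun m _ => Submodule.mem_iSup_of_mem (((u ^ m : kˣ) : k))
      (Module.End.mem_eigenspace_iff.2 (Subtype.ext ?_))
    exact Op_coeff B (l ≫ i) x h hh u m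
  have hfin : ∀ x : M, ∃ W : Submodule k M, x ∈ W ∧ W.FG ∧ ∀ j, ∀ w ∈ W, op j w ∈ W := by
    rintro ⟨x, hx⟩
    obtain ⟨W₀, hW₀, hmem⟩ := exists_finite_translates B x
    let W₁ : Submodule k Γ(B.V.left, ⊤) := Submodule.span k (Set.range fun d => Op B d x)
    have hle : W₁ ≤ W₀ := Submodule.span_le.2 (by rintro _ ⟨d, rfl⟩; exact hmem d)
    haveI : Module.Finite k W₀ := Module.Finite.iff_fg.2 hW₀
    haveI : Module.Finite k W₁ := Submodule.finiteDimensional_of_le hle
    have hW₁M : W₁ ≤ M := Submodule.span_le.2 (by rintro _ ⟨d, rfl⟩; exact Op_mem B hx d)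
    refine ⟨W₁.comap M.subtype, Submodule.subset_span ⟨1, Op_one B x⟩, ?_, ?_⟩
    · haveI : Module.Finite k (W₁.comap M.subtype) :=
        Module.Finite.equiv (Submodule.comapSubtypeEquivOfLe hW₁M).symm
      exact Module.Finite.iff_fg.1 ‹_›
    · rintro j w (hw : (w : Γ(B.V.left, ⊤)) ∈ W₁)
      show Op B _ (w : Γ(B.V.left, ⊤)) ∈ W₁
      refine Submodule.span_induction (p := fun y _ => Op B _ y ∈ W₁) ?_ ?_ ?_ ?_ hw
      · rintro _ ⟨d, rfl⟩
        rw [Op_Op]
        exact Submodule.subset_span ⟨_, rfl⟩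
      · rw [map_zero]; exact zero_mem _
      · intro y z _ _ hy hz; rw [map_add]; exact add_mem hy hz
      · intro r y _ hy; rw [map_smul]; exact Submodule.smul_mem _ _ hy
  have htop := SimDiag.iSup_iInf_eigenspace_eq_top (R := k) op hcomm hdiag hfin
  have hmem : (⟨f, hf⟩ : M) ∈ ⨆ χ : ι' → k, ⨅ j, Module.End.eigenspace ((op j).restrictScalars k) (χ j) := by
    rw [htop]; trivial
  refine Submodule.iSup_induction _ (motive := fun y : M => (y : Γ(B.V.left, ⊤)) ∈
    Submodule.span k {h | Good B i N h}) hmem ?_ (zero_mem _) fun y z hy hz => add_mem hy hz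
  intro χ y hy
  refine Submodule.subset_span ⟨y.2, fun l _ => exists_eig_of_scalar B (l ≫ i) _ fun u => ⟨χ (⟨l, inferInstance⟩, u), ?_⟩⟩
  have := Module.End.mem_eigenspace_iff.1 ((Submodule.mem_iInf _).1 hy (⟨l, inferInstance⟩, u))
  exact congrArg Subtype.val this

end Groth.Agent.WtMu19
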