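import Groth.Agent.Lib.WtMu19.Op

/-! # Points with a prescribed fibre coordinate, supports of homogeneous functions -/

set_option autoImplicit false
set_option linter.style.haveILetI false
set_option backward.isDefEq.respectTransparency.types false
universe u

open CategoryTheory Limits MonoidalCategory CartesianMonoidalCategory MonObj AlgebraicGeometry
open scoped TensorProduct

noncomputable section

namespace Groth.Agent.WtMu19

open FixLine19 (sp str)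

attribute [local instance] HomSch19.algW

variable {k : Type u} [Field k] {G X : Over (Spec (CommRingCat.of k))} [GrpObj G] {a : AlgGrp.Action G X}
  (B : GLinSh.LinBun G a)

theorem evalFn_res {U W : X.left.Opens} (hWU : W ≤ U) (y : Γ(B.V.left, B.π.left ⁻¹ᵁ U))
    {T : Over (Spec (CommRingCat.of k))} (v : T ⟶ B.V) (h : ⊤ ≤ v.left ⁻¹ᵁ (B.π.left ⁻¹ᵁ W))
    (h' : ⊤ ≤ v.left ⁻¹ᵁ (B.π.left ⁻¹ᵁ U)) :
    HMNum.evalFn B.π (GLinSh.res B.π hWU y) v h = HMNum.evalFn B.π y v h' := by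
  rw [HMNum.evalFn, HMNum.evalFn, GLinSh.res, ← CommRingCat.comp_apply, Scheme.Hom.map_appLE]

theorem evalFn_comp {U : X.left.Opens} (y : Γ(B.V.left, B.π.left ⁻¹ᵁ U))
    {T T' : Over (Spec (CommRingCat.of k))} (t : T' ⟶ T) (v : T ⟶ B.V) (h : ⊤ ≤ v.left ⁻¹ᵁ (B.π.left ⁻¹ᵁ U))
    (h' : ⊤ ≤ (t ≫ v).left ⁻¹ᵁ (B.π.left ⁻¹ᵁ U)) :
    HMNum.evalFn B.π y (t ≫ v) h' = t.left.appTop (HMNum.evalFn B.π y v h) := by
  show (t.left ≫ v.left).appLE (B.π.left ⁻¹ᵁ U) ⊤ h' y = t.left.appTop (v.left.appLE (B.π.left ⁻¹ᵁ U) ⊤ h y)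
  rw [← CommRingCat.comp_apply,
    show t.left.appTop = t.left.appLE ⊤ ⊤ (fun _ _ => trivial) from t.left.app_eq_appLE (U := ⊤),
    Scheme.Hom.appLE_comp_appLE]

theorem evalFn_congr {U : X.left.Opens} (y : Γ(B.V.left, B.π.left ⁻¹ᵁ U)) {T : Over (Spec (CommRingCat.of k))}
    {v v' : T ⟶ B.V} (e : v = v') (h : ⊤ ≤ v.left ⁻¹ᵁ (B.π.left ⁻¹ᵁ U)) :
    HMNum.evalFn B.π y v h = HMNum.evalFn B.π y v' (e ▸ h) := by
  subst e; rfl

/-- A point with a prescribed fibre coordinate. -/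
theorem exists_pt_coord {R : Type u} [CommRing R] [Algebra k R] [IsLocalRing R] {U : X.left.Opens}
    {y : Γ(B.V.left, B.π.left ⁻¹ᵁ U)} (hy : y ∈ B.atlas.chart U) (p : sp (k := k) R ⟶ X)
    (hU : p.left ⁻¹ᵁ U = ⊤) (s : Γ((sp (k := k) R).left, ⊤)) :
    ∃ (v : sp (k := k) R ⟶ B.V) (_ : v ≫ B.π = p) (h : ⊤ ≤ v.left ⁻¹ᵁ (B.π.left ⁻¹ᵁ U)),
      HMNum.evalFn B.π y v h = s := by
  haveI := B.atlas.affine
  obtain ⟨W, hW, hxW, hWU⟩ := exists_isAffineOpen_mem_and_subset (X := X.left)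
    (x := p.left (IsLocalRing.closedPoint R)) (U := U) (hU.ge trivial)
  have hpW : Set.range p.left ⊆ Set.range hW.fromSpec := by
    rw [hW.range_fromSpec]
    rintro _ ⟨z, rfl⟩
    exact ((IsLocalRing.specializes_closedPoint z).map p.left.continuous).mem_open W.2 hxW
  obtain ⟨φp, hφp⟩ : ∃ φ : Γ(X.left, W) ⟶ CommRingCat.of R, Spec.map φ =
      IsOpenImmersion.lift hW.fromSpec p.left hpW := ⟨_, Spec.map_preimage _⟩
  have hp : Spec.map φp ≫ hW.fromSpec = p.left := by rw [hφp]; exact IsOpenImmersion.lift_fac _ _ _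
  have hV : IsAffineOpen (B.π.left ⁻¹ᵁ W) := hW.preimage B.π.left
  let e := RingEquiv.ofBijective _ (B.atlas.coord U y hy W hW hWU)
  let ψ : Γ(B.V.left, B.π.left ⁻¹ᵁ W) →+* R :=
    (Polynomial.eval₂RingHom φp.hom ((Scheme.ΓSpecIso (CommRingCat.of R)).hom s)).comp e.symm.toRingHom
  have hψC : B.π.left.appLE W (B.π.left ⁻¹ᵁ W) le_rfl ≫ CommRingCat.ofHom ψ = φp := by
    ext c
    rw [← Scheme.Hom.app_eq_appLE]
    show Polynomial.eval₂RingHom φp.hom _ (e.symm (B.π.left.app W c)) = φp.hom c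
    rw [show B.π.left.app W c = e (Polynomial.C c) by simp [e], RingEquiv.symm_apply_apply]
    simp
  have hbase : (Spec.map (CommRingCat.ofHom ψ) ≫ hV.fromSpec) ≫ B.π.left = p.left := by
    rw [Category.assoc, ← hW.SpecMap_appLE_fromSpec B.π.left hV le_rfl, ← Spec.map_comp_assoc, hψC, hp]
  let v : sp (k := k) R ⟶ B.V := Over.homMk (Spec.map (CommRingCat.ofHom ψ) ≫ hV.fromSpec) (by
    rw [← Over.w B.π, ← Category.assoc, hbase, Over.w])
  have hvW : ⊤ ≤ v.left ⁻¹ᵁ (B.π.left ⁻¹ᵁ W) := fun z _ => by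
    show (Spec.map (CommRingCat.ofHom ψ) ≫ hV.fromSpec) z ∈ B.π.left ⁻¹ᵁ W
    exact hV.range_fromSpec.le ⟨_, rfl⟩
  refine ⟨v, Over.OverMorphism.ext hbase, hvW.trans (v.left.preimage_mono (B.π.left.preimage_mono hWU)), ?_⟩
  rw [← evalFn_res B hWU y v hvW]
  have h1 : hV.fromSpec.appLE (B.π.left ⁻¹ᵁ W) ⊤ hV.fromSpec_preimage_self.ge =
      (Scheme.ΓSpecIso Γ(B.V.left, B.π.left ⁻¹ᵁ W)).inv := by
    rw [Scheme.Hom.appLE, hV.fromSpec_app_self, Category.assoc, ← Functor.map_comp]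
    exact (congrArg (_ ≫ ·) ((congrArg _ (Subsingleton.elim _ _)).trans (CategoryTheory.Functor.map_id _ _))).trans
      (Category.comp_id _)
  show (Spec.map (CommRingCat.ofHom ψ) ≫ hV.fromSpec).appLE (B.π.left ⁻¹ᵁ W) ⊤ hvW (GLinSh.res B.π hWU y) = s
  rw [← Scheme.Hom.appLE_comp_appLE _ _ (V := ⊤) (e₁ := hV.fromSpec_preimage_self.ge) (e₂ := fun _ _ => trivial), h1,
    show (Spec.map (CommRingCat.ofHom ψ)).appLE ⊤ ⊤ (fun _ _ => trivial) = (Spec.map (CommRingCat.ofHom ψ)).appTop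
      from ((Spec.map (CommRingCat.ofHom ψ)).app_eq_appLE (U := ⊤)).symm,
    ← Scheme.ΓSpecIso_inv_naturality]
  show (Scheme.ΓSpecIso (CommRingCat.of R)).inv (ψ (GLinSh.res B.π hWU y)) = s
  rw [show GLinSh.res B.π hWU y = e Polynomial.X by simp [e]]
  show (Scheme.ΓSpecIso (CommRingCat.of R)).inv
    (Polynomial.eval₂RingHom φp.hom ((Scheme.ΓSpecIso (CommRingCat.of R)).hom s) (e.symm (e Polynomial.X))) = s
  rw [RingEquiv.symm_apply_apply]
  simp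

/-- A rational point with a prescribed fibre coordinate. -/
theorem exists_kpt_coord (p : 𝟙_ (Over (Spec (CommRingCat.of k))) ⟶ X) {U : X.left.Opens}
    {y : Γ(B.V.left, B.π.left ⁻¹ᵁ U)} (hy : y ∈ B.atlas.chart U) (hU : p.left ⁻¹ᵁ U = ⊤) :
    ∃ (v : 𝟙_ (Over (Spec (CommRingCat.of k))) ⟶ B.V) (_ : v ≫ B.π = p)
      (h : ⊤ ≤ v.left ⁻¹ᵁ (B.π.left ⁻¹ᵁ U)), HMNum.evalFn B.π y v h = 1 := by
  let c : 𝟙_ (Over (Spec (CommRingCat.of k))) ⟶ sp (k := k) k :=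
    FixLine19.toSp _ (str _) (by ext r; simp)
  have hU' : (toUnit (sp (k := k) k) ≫ p).left ⁻¹ᵁ U = ⊤ := by
    rw [Over.comp_left, Scheme.Hom.comp_preimage, hU]; rfl
  obtain ⟨v, hv, h, he⟩ := exists_pt_coord B hy (toUnit (sp (k := k) k) ≫ p) hU' 1
  refine ⟨c ≫ v, by rw [Category.assoc, hv, ← Category.assoc, toUnit_unique (c ≫ toUnit _) (𝟙 _), Category.id_comp],
    fun z _ => h trivial, ?_⟩
  rw [evalFn_comp B y c v h, he, map_one]

/-- A homogeneous function does not vanish identically on the fibre over a rational point. -/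
def Supp (x : 𝟙_ (Over (Spec (CommRingCat.of k))) ⟶ X) (f : Γ(B.V.left, ⊤)) : Prop :=
  ∃ v : 𝟙_ (Over (Spec (CommRingCat.of k))) ⟶ B.V, v ≫ B.π = x ∧ v.left.appTop f ≠ 0

theorem supp_of_nonvanishing {n : ℕ} {f : Γ(B.V.left, ⊤)} (hf : GLinSh.HasWeight B.atlas.chart n f)
    (hn : n ≠ 0) (x : 𝟙_ (Over (Spec (CommRingCat.of k))) ⟶ X) (t : (𝟙_ (Over (Spec (CommRingCat.of k)))).left)
    (hx : x.left t ∈ GLinSh.nonvanishing B.π f) : Supp B x f := by
  haveI : Subsingleton (Spec (CommRingCat.of k) : Scheme.{u}) := inferInstanceAs (Subsingleton (PrimeSpectrum k))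
  have hsub : ∀ s : (𝟙_ (Over (Spec (CommRingCat.of k)))).left, s = t :=
    fun s => Subsingleton.elim (α := (Spec (CommRingCat.of k) : Scheme.{u})) s t
  obtain ⟨z, hz, hzx⟩ := hx
  obtain ⟨U, y, hy, hU⟩ := loc_tensorUnit.exists_chart B x
  obtain ⟨c, hc⟩ := hf U y hy
  have hxU : x.left t ∈ U := hU.ge (trivial : t ∈ (⊤ : Scheme.Opens _))
  have hzU : z ∈ B.π.left ⁻¹ᵁ U := by
    show B.π.left z ∈ U
    rw [show B.π.left z = x.left t from hzx]; exact hxU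
  have h1 : z ∈ B.V.left.basicOpen (GLinSh.resTop B.π U f) := by
    rw [GLinSh.resTop, Scheme.basicOpen_res]
    exact ⟨hzU, hz⟩
  rw [hc, Scheme.basicOpen_mul] at h1
  have h2 : z ∈ B.π.left ⁻¹ᵁ X.left.basicOpen c := by rw [Scheme.preimage_basicOpen]; exact h1.1
  have h3 : x.left t ∈ X.left.basicOpen c := by
    rw [← show B.π.left z = x.left t from hzx]; exact h2
  obtain ⟨v, hv, h, he⟩ := exists_kpt_coord B x hy hU
  refine ⟨v, hv, ?_⟩
  rw [appTop_of_weight B hc v h, he, one_pow, _root_.mul_one]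
  intro h0
  have e : t ∈ (v ≫ B.π).left ⁻¹ᵁ X.left.basicOpen c := by
    show (v ≫ B.π).left t ∈ X.left.basicOpen c
    rw [hv]; exact h3
  have e2 : (𝟙_ (Over (Spec (CommRingCat.of k)))).left.basicOpen ((v ≫ B.π).left.appLE U ⊤ h c) = ⊥ := by
    rw [h0]; exact Scheme.basicOpen_zero _ _
  rw [Scheme.Hom.appLE, CommRingCat.comp_apply, Scheme.basicOpen_res, ← Scheme.preimage_basicOpen] at e2
  exact (e2.le ⟨trivial, e⟩ : t ∈ (⊥ : Scheme.Opens _))

end Groth.Agent.WtMu19
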