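import Groth.Agent.Lib.WtMu19.Limit
import Groth.Agent.Lib.WtMu19.Eigen
import Groth.Agent.Lib.WtMu19.Coord
import Mathlib.RingTheory.HahnSeries.Multiplication

/-! # The numerical function as the extreme weight of a finite family of eigenfunctions -/

set_option autoImplicit false
set_option linter.style.haveILetI false
set_option backward.isDefEq.respectTransparency.types false
universe u

open CategoryTheory Limits MonoidalCategory CartesianMonoidalCategory MonObj AlgebraicGeometry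
open scoped TensorProduct

noncomputable section

namespace Groth.Agent.WtMu19

open FixLine19 (sp str)

attribute [local instance] HomSch19.algW

variable {k : Type u} [Field k] [Infinite k]
  {G X : Over (Spec (CommRingCat.of k))} [GrpObj G] {a : AlgGrp.Action G X} (B : GLinSh.LinBun G a)

omit [Infinite k] in
theorem isMul_one_coord {T : Over (Spec (CommRingCat.of k))} {U : X.left.Opens}
    {y : Γ(B.V.left, B.π.left ⁻¹ᵁ U)} (hy : y ∈ B.atlas.chart U) {v₀ v : T ⟶ B.V} (hπ : v ≫ B.π = v₀ ≫ B.π)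
    (h₀ : ⊤ ≤ v₀.left ⁻¹ᵁ (B.π.left ⁻¹ᵁ U)) (h : ⊤ ≤ v.left ⁻¹ᵁ (B.π.left ⁻¹ᵁ U))
    (e : HMNum.evalFn B.π y v₀ h₀ = 1) : IsMul B v₀ v (HMNum.evalFn B.π y v h) :=
  ⟨hπ, U, y, hy, h₀, h, by rw [e, _root_.mul_one]⟩

omit [Infinite k] in
theorem kv_pow_unit (u : kˣ) (e : ℤ) {T : Over (Spec (CommRingCat.of k))} :
    zp (toUnit T ≫ ptU u) e = str T ((u ^ e : kˣ) : k) := by rw [zp_nat, zp_ptU, str_nat]

omit [Infinite k] in
/-- On the fibre over a fixed point a one-parameter subgroup acts by a function on the multiplicative group. -/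
theorem exists_fibre_function (l : Red.Gm (Spec (CommRingCat.of k)) ⟶ G) [IsMonHom l]
    (y₀ : 𝟙_ (Over (Spec (CommRingCat.of k))) ⟶ X) (hfix : HMNum.IsFixedBy a l y₀)
    {U : X.left.Opens} {yc : Γ(B.V.left, B.π.left ⁻¹ᵁ U)} (hy : yc ∈ B.atlas.chart U)
    (hU : y₀.left ⁻¹ᵁ U = ⊤) :
    ∃ C : ℤ →₀ k, ∀ (T : Over (Spec (CommRingCat.of k))) (t : T ⟶ 𝟙_ _) (g : T ⟶ Red.Gm _) (v : T ⟶ B.V)
      (hv : v ≫ B.π = t ≫ y₀) (hgv : (lift (g ≫ l) v ≫ B.lift.act) ≫ B.π = t ≫ y₀),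
      HMNum.evalFn B.π yc (lift (g ≫ l) v ≫ B.lift.act) (HMNum.top_le_preimage B.π hU hgv) =
        ev g C * HMNum.evalFn B.π yc v (HMNum.top_le_preimage B.π hU hv) := by
  obtain ⟨v₀, hv₀, h₀, e₀⟩ := exists_kpt_coord B y₀ hy hU
  have hover : ∀ {T : Over (Spec (CommRingCat.of k))} (g : T ⟶ Red.Gm _) (v : T ⟶ B.V) (t : T ⟶ 𝟙_ _),
      v ≫ B.π = t ≫ y₀ → (lift (g ≫ l) v ≫ B.lift.act) ≫ B.π = t ≫ y₀ := by
    intro T g v t hv
    rw [lift_act_π, hv]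
    exact hfix T t g
  let P := lift l (toUnit (Red.Gm (Spec (CommRingCat.of k))) ≫ v₀) ≫ B.lift.act
  have hPπ : P ≫ B.π = toUnit _ ≫ y₀ := by
    have := hover (𝟙 _) (toUnit (Red.Gm (Spec (CommRingCat.of k))) ≫ v₀) (toUnit _) (by rw [Category.assoc, hv₀])
    rwa [Category.id_comp] at this
  obtain ⟨C, hC⟩ := exists_expand (HMNum.evalFn B.π yc P (HMNum.top_le_preimage B.π hU hPπ))
  refine ⟨C, fun T t g v hv hgv => ?_⟩
  obtain rfl : t = toUnit T := toUnit_unique _ _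
  have hw : (toUnit T ≫ v₀) ≫ B.π = toUnit T ≫ y₀ := by rw [Category.assoc, hv₀]
  have hgw := hover g (toUnit T ≫ v₀) (toUnit T) hw
  obtain ⟨c, hc⟩ := HMNum19.exists_eval_act B.lift_linear hy hy (g ≫ l) (toUnit T ≫ y₀)
    (eq_top_iff.2 fun z _ => hU.ge trivial)
    (by rw [show lift (g ≫ l) (toUnit T ≫ y₀) ≫ a.act = toUnit T ≫ y₀ from
      hfix T (toUnit T) g]; exact eq_top_iff.2 fun z _ => hU.ge trivial)
  have e1 := hc v hv (HMNum.top_le_preimage B.π hU hv) (HMNum.top_le_preimage B.π hU hgv)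
  have e2 := hc (toUnit T ≫ v₀) hw (HMNum.top_le_preimage B.π hU hw) (HMNum.top_le_preimage B.π hU hgw)
  rw [evalFn_comp B yc (toUnit T) v₀ h₀, e₀, map_one, _root_.mul_one] at e2
  rw [e1, ← e2]
  congr 1
  rw [← hC T g]
  have eP : lift (g ≫ l) (toUnit T ≫ v₀) ≫ B.lift.act = g ≫ P := by
    show _ = g ≫ lift l (toUnit _ ≫ v₀) ≫ B.lift.act
    rw [comp_lift_assoc, comp_toUnit_assoc]
  rw [evalFn_congr B yc eP, evalFn_comp B yc g P (HMNum.top_le_preimage B.π hU hPπ)]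

omit [Infinite k] in
theorem evalFn_congr2 {U : X.left.Opens} (y : Γ(B.V.left, B.π.left ⁻¹ᵁ U)) {T : Over (Spec (CommRingCat.of k))}
    {v v' : T ⟶ B.V} (e : v = v') (h : ⊤ ≤ v.left ⁻¹ᵁ (B.π.left ⁻¹ᵁ U))
    (h' : ⊤ ≤ v'.left ⁻¹ᵁ (B.π.left ⁻¹ᵁ U)) :
    HMNum.evalFn B.π y v h = HMNum.evalFn B.π y v' h' := by
  subst e; rfl

/-- On the fibre over a fixed point a one-parameter subgroup acts by a character. -/
theorem exists_fibre_character (l : Red.Gm (Spec (CommRingCat.of k)) ⟶ G) [IsMonHom l]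
    (y₀ : 𝟙_ (Over (Spec (CommRingCat.of k))) ⟶ X) (hfix : HMNum.IsFixedBy a l y₀)
    {U : X.left.Opens} {yc : Γ(B.V.left, B.π.left ⁻¹ᵁ U)} (hy : yc ∈ B.atlas.chart U)
    (hU : y₀.left ⁻¹ᵁ U = ⊤) :
    ∃ w : ℤ, ∀ (T : Over (Spec (CommRingCat.of k))) (t : T ⟶ 𝟙_ _) (g : T ⟶ Red.Gm _) (v : T ⟶ B.V)
      (hv : v ≫ B.π = t ≫ y₀) (hgv : (lift (g ≫ l) v ≫ B.lift.act) ≫ B.π = t ≫ y₀),
      HMNum.evalFn B.π yc (lift (g ≫ l) v ≫ B.lift.act) (HMNum.top_le_preimage B.π hU hgv) =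
        zp g w * HMNum.evalFn B.π yc v (HMNum.top_le_preimage B.π hU hv) := by
  obtain ⟨C, key⟩ := exists_fibre_function B l y₀ hfix hy hU
  obtain ⟨v₀, hv₀, h₀, e₀⟩ := exists_kpt_coord B y₀ hy hU
  have hover : ∀ {T : Over (Spec (CommRingCat.of k))} (g : T ⟶ Red.Gm _) (v : T ⟶ B.V) (t : T ⟶ 𝟙_ _),
      v ≫ B.π = t ≫ y₀ → (lift (g ≫ l) v ≫ B.lift.act) ≫ B.π = t ≫ y₀ := by
    intro T g v t hv
    rw [lift_act_π, hv]
    exact hfix T t g
  let χ : kˣ → k := fun u => kv (ev (ptU u) C)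
  have hstep : ∀ (u : kˣ) (v : 𝟙_ (Over (Spec (CommRingCat.of k))) ⟶ B.V), v ≫ B.π = y₀ →
      (lift (ptU u ≫ l) v ≫ B.lift.act) ≫ B.π = y₀ ∧
      ∀ (h : ⊤ ≤ v.left ⁻¹ᵁ (B.π.left ⁻¹ᵁ U))
        (h' : ⊤ ≤ (lift (ptU u ≫ l) v ≫ B.lift.act).left ⁻¹ᵁ (B.π.left ⁻¹ᵁ U)),
        kv (HMNum.evalFn B.π yc (lift (ptU u ≫ l) v ≫ B.lift.act) h') =
          χ u * kv (HMNum.evalFn B.π yc v h) := by
    intro u v hv
    have hv' : v ≫ B.π = 𝟙 _ ≫ y₀ := by rw [hv, Category.id_comp]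
    refine ⟨(hover _ _ _ hv').trans (Category.id_comp _), fun h h' => ?_⟩
    exact (congrArg kv (key _ _ _ _ hv' (hover _ _ _ hv'))).trans (map_mul kv _ _)
  obtain ⟨a1, b1⟩ := hstep 1 v₀ hv₀
  have hle : ∀ {u : kˣ} {v : 𝟙_ (Over (Spec (CommRingCat.of k))) ⟶ B.V},
      (lift (ptU u ≫ l) v ≫ B.lift.act) ≫ B.π = y₀ →
      ⊤ ≤ (lift (ptU u ≫ l) v ≫ B.lift.act).left ⁻¹ᵁ (B.π.left ⁻¹ᵁ U) := fun h =>
    HMNum.top_le_preimage B.π hU (t := 𝟙 _) (by rw [h, Category.id_comp])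
  have hone : kv (HMNum.evalFn B.π yc v₀ h₀) = 1 := by rw [e₀, map_one]
  have h1 : χ 1 = 1 := by
    have hh := b1 h₀ (hle a1)
    rw [hone, _root_.mul_one] at hh
    have e : lift (ptU 1 ≫ l) v₀ ≫ B.lift.act = v₀ := by
      rw [ptU_one, MonObj.one_comp, AlgGrpBasic19.act_one]
    exact hh.symm.trans ((congrArg kv (evalFn_congr2 B yc e (hle a1) h₀)).trans hone)
  have hm : ∀ u u' : kˣ, χ (u * u') = χ u * χ u' := by
    intro u u'
    obtain ⟨a', b'⟩ := hstep u' v₀ hv₀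
    obtain ⟨a'', b''⟩ := hstep u _ a'
    obtain ⟨a₂, b₂⟩ := hstep (u * u') v₀ hv₀
    have hh' := b' h₀ (hle a')
    have hh'' := b'' (hle a') (hle a'')
    have hh := b₂ h₀ (hle a₂)
    rw [hone, _root_.mul_one] at hh hh'
    rw [hh'] at hh''
    have e : lift (ptU (u * u') ≫ l) v₀ ≫ B.lift.act =
        lift (ptU u ≫ l) (lift (ptU u' ≫ l) v₀ ≫ B.lift.act) ≫ B.lift.act := by
      rw [ptU_mul, MonObj.mul_comp, AlgGrpBasic19.act_mul]
    exact hh.symm.trans ((congrArg kv (evalFn_congr2 B yc e (hle a₂) (hle a''))).trans hh'')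
  obtain ⟨w, hw⟩ := exists_eq_single h1 hm
  refine ⟨w, fun T t g v hv hgv => ?_⟩
  rw [key T t g v hv hgv, hw]
  congr 1
  simp [ev]

omit [Infinite k] in
/-- Comparing weights at a rational point. -/
theorem pow_eq_of_isMul {N : ℕ} {f : Γ(B.V.left, ⊤)} (hf : Homog B N f) {e w : ℤ}
    (l : Red.Gm (Spec (CommRingCat.of k)) ⟶ G) (he : Eig B l f e)
    (v : 𝟙_ (Over (Spec (CommRingCat.of k))) ⟶ B.V) (hv : v.left.appTop f ≠ 0) (u : kˣ)
    (h : IsMul B v (lift (ptU u ≫ l) v ≫ B.lift.act) (zp (ptU u) w)) : u ^ (w * N) = u ^ e := by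
  have h1 := hf loc_tensorUnit _ _ _ h
  rw [he, zp_ptU, zp_ptU, ← map_pow] at h1
  have h2 := congrArg kv h1
  rw [map_mul, map_mul, kv_str, kv_str] at h2
  have h3 : kv (v.left.appTop f) ≠ 0 := by simpa using hv
  apply Units.ext
  rw [mul_right_cancel₀ h3 h2, zpow_mul, zpow_natCast, Units.val_pow_eq_pow_val]

/-- The numerical function is the extreme normalised weight of a covering family of eigenfunctions. -/
theorem mu_spec_limit [IsProper X.hom] (l : Red.Gm (Spec (CommRingCat.of k)) ⟶ G) [IsMonHom l]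
    (x : 𝟙_ (Over (Spec (CommRingCat.of k))) ⟶ X) {J : Type*} (f : J → Γ(B.V.left, ⊤)) (n : J → ℕ) (e : J → ℤ)
    (hn : ∀ j, 1 ≤ n j) (hh : ∀ j, Homog B (n j) (f j)) (he : ∀ j, Eig B l (f j) (e j))
    (hcov : ∀ p : 𝟙_ (Over (Spec (CommRingCat.of k))) ⟶ X, ∃ j, Supp B p (f j)) :
    ∃ w : ℤ, HMNum.IsMu B l x (-w) ∧ (∀ m, HMNum.IsMu B l x m → m = -w) ∧
      (∀ j, Supp B x (f j) → (n j : ℤ) * w ≤ e j) ∧ (∃ j, Supp B x (f j) ∧ (n j : ℤ) * w = e j) ∧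
      ∀ y, HMNum.IsLimitPt a l x y → ∀ j, Supp B x (f j) → (n j : ℤ) * w = e j → Supp B y (f j) := by
  obtain ⟨ψ, hψ, hlim⟩ := exists_isLimitPt a l x
  have hfix := HMNum19.isFixedBy_of_isLimitPt hlim
  set y₀ := HMNum.origin (Spec (CommRingCat.of k)) ≫ ψ with hy₀def
  let q : sp (k := k) (PS k) ⟶ X := genA ≫ ψ
  have hq0 : clM ≫ q = y₀ := by rw [← Category.assoc, clM_genA]
  have hqL : locM ≫ q = lift (genG ≫ l) (toUnit _ ≫ x) ≫ a.act := by
    rw [← Category.assoc, locM_genA, Category.assoc, hψ, comp_lift_assoc, comp_toUnit_assoc]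
  obtain ⟨U, yc, hy, hqU⟩ := (loc_sp (k := k) (PS k)).exists_chart B q
  have hU₀ : y₀.left ⁻¹ᵁ U = ⊤ := by
    rw [← hq0, Over.comp_left, Scheme.Hom.comp_preimage, hqU]; rfl
  -- the section along the limit
  obtain ⟨v₁, hv₁, h₁, e₁⟩ := exists_pt_coord B hy q hqU 1
  let v₀ := clM ≫ v₁
  have hv₀ : v₀ ≫ B.π = y₀ := by rw [Category.assoc, hv₁, hq0]
  have h₀ : ⊤ ≤ v₀.left ⁻¹ᵁ (B.π.left ⁻¹ᵁ U) := fun z _ => h₁ trivial
  have e₀ : HMNum.evalFn B.π yc v₀ h₀ = 1 := by rw [evalFn_comp B yc clM v₁ h₁, e₁, map_one]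
  -- the section at the point
  obtain ⟨Ux, yx, hyx, hUx⟩ := loc_tensorUnit.exists_chart B x
  obtain ⟨vx, hvx, hx₁, ex₁⟩ := exists_kpt_coord B x hyx hUx
  let wL := lift (genG ≫ l) (toUnit _ ≫ vx) ≫ B.lift.act
  have hwL : wL ≫ B.π = (locM ≫ v₁) ≫ B.π := by
    rw [lift_act_π, Category.assoc, hvx, Category.assoc, hv₁, hqL]
  have hLU : ⊤ ≤ (locM ≫ v₁).left ⁻¹ᵁ (B.π.left ⁻¹ᵁ U) := fun z _ => h₁ trivial
  have hwU : ⊤ ≤ wL.left ⁻¹ᵁ (B.π.left ⁻¹ᵁ U) := by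
    intro z hz
    have h2 : (wL ≫ B.π).left z ∈ U := by
      rw [hwL]; exact hLU hz
    exact h2
  have hmulL : IsMul B (locM ≫ v₁) wL (HMNum.evalFn B.π yc wL hwU) :=
    isMul_one_coord B hy hwL hLU hwU (by rw [evalFn_comp B yc locM v₁ h₁, e₁, map_one])
  obtain ⟨η', hη'⟩ := el_surjective (k := k) (R := LS k) (HMNum.evalFn B.π yc wL hwU)
  choose P hP using fun j => el_surjective (k := k) (R := PS k) (v₁.left.appTop (f j))
  let c : J → k := fun j => kv (vx.left.appTop (f j))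
  have hser : ∀ j, HahnSeries.single (e j) (c j) = η' ^ n j * HahnSeries.ofPowerSeries ℤ k (P j) := by
    intro j
    apply el_injective (k := k)
    rw [map_mul, map_pow, hη', ← locM_app, hP]
    have h2 := hh j (loc_sp (k := k) (LS k)) _ _ _ hmulL
    rw [he j, Over.comp_left, Over.comp_left, Scheme.Hom.comp_appTop, Scheme.Hom.comp_appTop,
      CommRingCat.comp_apply, CommRingCat.comp_apply, ← str_kv (vx.left.appTop (f j)), str_nat, zp_genG,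
      str_sp, ← map_mul] at h2
    rw [← h2]
    congr 1
    rw [show algebraMap k (LS k) (c j) = HahnSeries.single (0 : ℤ) (c j) from ?_,
      HahnSeries.single_mul_single, add_zero, _root_.one_mul]
    show HahnSeries.ofPowerSeries ℤ k (algebraMap k (PS k) (c j)) = _
    rw [PowerSeries.algebraMap_apply, Algebra.algebraMap_self, RingHom.id_apply, HahnSeries.ofPowerSeries_C,
      HahnSeries.C_apply]
  have hsupp : ∀ j, Supp B x (f j) ↔ c j ≠ 0 := by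
    intro j
    refine ⟨?_, fun h => ⟨vx, hvx, fun h0 => h (by simp [c, h0])⟩⟩
    rintro ⟨v, hv, hne⟩ h0
    have hvU : ⊤ ≤ v.left ⁻¹ᵁ (B.π.left ⁻¹ᵁ Ux) :=
      HMNum.top_le_preimage B.π hUx (t := 𝟙 _) (by rw [hv, Category.id_comp])
    have h2 := hh j loc_tensorUnit _ _ _ (isMul_one_coord B hyx (by rw [hv, hvx]) hx₁ hvU ex₁)
    apply hne
    rw [h2, ← str_kv (vx.left.appTop (f j))]
    simp only [c] at h0
    rw [h0, map_zero, mul_zero]
  -- the limit lies in the support of some member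
  obtain ⟨j₀, vy, hvy, hne₀⟩ := hcov y₀
  have hP₀ : PowerSeries.constantCoeff (P j₀) ≠ 0 := by
    intro h0
    have hvU : ⊤ ≤ vy.left ⁻¹ᵁ (B.π.left ⁻¹ᵁ U) :=
      HMNum.top_le_preimage B.π hU₀ (t := 𝟙 _) (by rw [hvy, Category.id_comp])
    have h2 := hh j₀ loc_tensorUnit _ _ _ (isMul_one_coord B hy (by rw [hvy, hv₀]) h₀ hvU e₀)
    apply hne₀
    rw [h2, show v₀.left.appTop (f j₀) = clM.left.appTop (v₁.left.appTop (f j₀)) from rfl, ← hP, clM_app,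
      h0, map_zero, mul_zero]
  have hPne : ∀ j, c j ≠ 0 → HahnSeries.ofPowerSeries ℤ k (P j) ≠ 0 ∧ η' ≠ 0 := by
    intro j hj
    have : η' ^ n j * HahnSeries.ofPowerSeries ℤ k (P j) ≠ 0 := by
      rw [← hser j]; exact HahnSeries.single_ne_zero hj
    exact ⟨right_ne_zero_of_mul this, fun h => left_ne_zero_of_mul this (by
      rw [h, zero_pow (by have := hn j; omega)])⟩
  obtain ⟨j₁, hj₁⟩ := hcov x
  have hη0 : η' ≠ 0 := (hPne j₁ ((hsupp j₁).1 hj₁)).2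
  set w := η'.order with hwdef
  have hord : ∀ j, c j ≠ 0 → e j = (n j : ℤ) * w + (HahnSeries.ofPowerSeries ℤ k (P j)).order := by
    intro j hj
    have h2 := congrArg HahnSeries.order (hser j)
    rwa [HahnSeries.order_single hj, HahnSeries.order_mul (pow_ne_zero _ hη0) (hPne j hj).1,
      HahnSeries.order_pow, nsmul_eq_mul] at h2
  have hc₀ : c j₀ ≠ 0 := by
    intro h0
    have h2 := hser j₀
    rw [h0, map_zero] at h2
    rcases mul_eq_zero.1 h2.symm with h3 | h3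
    · exact pow_ne_zero _ hη0 h3
    · exact hP₀ (by
        have : P j₀ = 0 := HahnSeries.ofPowerSeries_injective (by rw [h3, map_zero])
        rw [this, map_zero])
  have hnonneg : ∀ j, c j ≠ 0 → 0 ≤ (HahnSeries.ofPowerSeries ℤ k (P j)).order := by
    intro j hj
    by_contra hlt
    apply (mt HahnSeries.coeff_order_eq_zero.1) (hPne j hj).1
    rw [PowerSeries.coeff_coe, if_pos (not_le.1 hlt)]
  have hzero : (HahnSeries.ofPowerSeries ℤ k (P j₀)).order = 0 := by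
    refine le_antisymm (HahnSeries.order_le_of_coeff_ne_zero ?_) (hnonneg j₀ hc₀)
    rw [show ((0 : ℤ)) = ((0 : ℕ) : ℤ) from rfl, HahnSeries.ofPowerSeries_apply_coeff]
    simpa using hP₀
  have he₀ : e j₀ = (n j₀ : ℤ) * w := by rw [hord j₀ hc₀, hzero, add_zero]
  -- weights on the fibre at the limit
  have hne₀' : v₀.left.appTop (f j₀) ≠ 0 := by
    rw [show v₀.left.appTop (f j₀) = clM.left.appTop (v₁.left.appTop (f j₀)) from rfl, ← hP, clM_app]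
    intro h
    exact hP₀ (by simpa [kv_str] using congrArg kv h)
  have huniq : ∀ w' : ℤ, (∀ u : kˣ, IsMul B v₀ (lift (ptU u ≫ l) v₀ ≫ B.lift.act) (zp (ptU u) w')) →
      w' = w := by
    intro w' hw'
    have h2 : w' * (n j₀ : ℤ) = e j₀ :=
      eq_of_pow_eq (k := k) fun u => pow_eq_of_isMul B (hh j₀) l (he j₀) v₀ hne₀' u (hw' u)
    rw [he₀, _root_.mul_comm (n j₀ : ℤ)] at h2
    exact mul_right_cancel₀ (by have := hn j₀; omega) h2
  have hwt : ∀ w' (U' : X.left.Opens) (y' : Γ(B.V.left, B.π.left ⁻¹ᵁ U')) (_ : y' ∈ B.atlas.chart U')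
      (hU' : y₀.left ⁻¹ᵁ U' = ⊤),
      (∀ (T : Over (Spec (CommRingCat.of k))) (t : T ⟶ 𝟙_ _) (g : T ⟶ Red.Gm _) (v : T ⟶ B.V)
        (hv : v ≫ B.π = t ≫ y₀) (hgv : (lift (g ≫ l) v ≫ B.lift.act) ≫ B.π = t ≫ y₀),
        HMNum.evalFn B.π y' (lift (g ≫ l) v ≫ B.lift.act) (HMNum.top_le_preimage B.π hU' hgv) =
          zp g w' * HMNum.evalFn B.π y' v (HMNum.top_le_preimage B.π hU' hv)) → w' = w := by
    intro w' U' y' hy' hU' hh'
    refine huniq w' fun u => ?_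
    have hv : v₀ ≫ B.π = 𝟙 _ ≫ y₀ := by rw [hv₀, Category.id_comp]
    have hgv : (lift (ptU u ≫ l) v₀ ≫ B.lift.act) ≫ B.π = 𝟙 _ ≫ y₀ := by
      rw [lift_act_π, hv]; exact hfix _ (𝟙 _) (ptU u)
    exact ⟨by rw [hgv, hv], U', y', hy', HMNum.top_le_preimage B.π hU' hv,
      HMNum.top_le_preimage B.π hU' hgv, hh' _ (𝟙 _) (ptU u) v₀ hv hgv⟩
  obtain ⟨w', hw'⟩ := exists_fibre_character B l y₀ hfix hy hU₀
  rw [hwt w' U yc hy hU₀ hw'] at hw'
  refine ⟨w, ⟨y₀, hlim, ?_⟩, ?_, ?_, ⟨j₀, (hsupp j₀).2 hc₀, he₀.symm⟩, ?_⟩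
  · rw [neg_neg]; exact ⟨hfix, U, yc, hy, hU₀, hw'⟩
  · rintro m ⟨y', hy', hw''⟩
    obtain rfl : y' = y₀ := HMNum19.isLimitPt_unique hy' hlim
    obtain ⟨-, U', yc', hyc', hU', hval⟩ := hw''
    have := hwt (-m) U' yc' hyc' hU' hval
    omega
  · intro j hj
    have := hord j ((hsupp j).1 hj)
    have := hnonneg j ((hsupp j).1 hj)
    omega
  · intro y hy j hj hje
    obtain rfl : y = y₀ := HMNum19.isLimitPt_unique hy hlim
    refine ⟨v₀, hv₀, ?_⟩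
    rw [show v₀.left.appTop (f j) = clM.left.appTop (v₁.left.appTop (f j)) from rfl, ← hP, clM_app]
    intro h
    have h0 : PowerSeries.constantCoeff (P j) = 0 := by simpa [kv_str] using congrArg kv h
    have h1 : (HahnSeries.ofPowerSeries ℤ k (P j)).order = 0 := by
      have := hord j ((hsupp j).1 hj)
      omega
    apply (mt HahnSeries.coeff_order_eq_zero.1) (hPne j ((hsupp j).1 hj)).1
    rw [h1, show ((0 : ℤ)) = ((0 : ℕ) : ℤ) from rfl, HahnSeries.ofPowerSeries_apply_coeff]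
    simpa using h0

/-- The numerical function is the extreme normalised weight of a covering family of eigenfunctions. -/
theorem mu_spec [IsProper X.hom] (l : Red.Gm (Spec (CommRingCat.of k)) ⟶ G) [IsMonHom l]
    (x : 𝟙_ (Over (Spec (CommRingCat.of k))) ⟶ X) {J : Type*} (f : J → Γ(B.V.left, ⊤)) (n : J → ℕ) (e : J → ℤ)
    (hn : ∀ j, 1 ≤ n j) (hh : ∀ j, Homog B (n j) (f j)) (he : ∀ j, Eig B l (f j) (e j))
    (hcov : ∀ p : 𝟙_ (Over (Spec (CommRingCat.of k))) ⟶ X, ∃ j, Supp B p (f j)) :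
    ∃ w : ℤ, HMNum.IsMu B l x (-w) ∧ (∀ m, HMNum.IsMu B l x m → m = -w) ∧
      (∀ j, Supp B x (f j) → (n j : ℤ) * w ≤ e j) ∧ ∃ j, Supp B x (f j) ∧ (n j : ℤ) * w = e j := by
  obtain ⟨w, h1, h2, h3, h4, -⟩ := mu_spec_limit B l x f n e hn hh he hcov
  exact ⟨w, h1, h2, h3, h4⟩

end Groth.Agent.WtMu19
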