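import Groth.Agent.Lib.WtMu19.Base
import Groth.Agent.Lib.HomSch19.Sections
import Groth.Agent.Lib.HMNum19.Translate
import Groth.Agent.Lib.AlgGrpBasic19.Basic

/-! # Operators of rational points on functions on the total space, homogeneity, eigenfunctions -/

set_option autoImplicit false
set_option linter.style.haveILetI false
set_option backward.isDefEq.respectTransparency.types false
universe u

open CategoryTheory Limits MonoidalCategory CartesianMonoidalCategory MonObj AlgebraicGeometry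
open scoped TensorProduct

noncomputable section

namespace Groth.Agent.WtMu19

open FixLine19 (sp str)

attribute [local instance] HomSch19.algW

variable {k : Type u} [Field k]

local notation "S₀" => Spec (CommRingCat.of k)

theorem algebraMap_eq_str (T : Over S₀) (c : k) : algebraMap k Γ(T.left, ⊤) c = str T c := by
  rw [HomSch19.algebraMap_apply]
  exact (ConcreteCategory.congr_hom (T.hom.app_eq_appLE (U := ⊤)).symm _)

theorem smul_eq_str (T : Over S₀) (c : k) (x : Γ(T.left, ⊤)) : c • x = str T c * x := by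
  rw [Algebra.smul_def, algebraMap_eq_str]

theorem appTop_smul {T T' : Over S₀} (t : T' ⟶ T) (c : k) (x : Γ(T.left, ⊤)) :
    t.left.appTop (c • x) = c • t.left.appTop x := by
  rw [smul_eq_str, smul_eq_str, map_mul, str_nat]

/-- The test scheme has a point to which all its points specialize. -/
def Loc (T : Over (Spec (CommRingCat.of k))) : Prop := ∃ t : T.left, ∀ z : T.left, z ⤳ t

theorem loc_tensorUnit : Loc (𝟙_ (Over (Spec (CommRingCat.of k)))) := by
  haveI : Subsingleton (Spec (CommRingCat.of k) : Scheme.{u}) := inferInstanceAs (Subsingleton (PrimeSpectrum k))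
  let t : (Spec (CommRingCat.of k) : Scheme.{u}) := Classical.arbitrary _
  exact ⟨t, fun z => by rw [Subsingleton.elim (α := (Spec (CommRingCat.of k) : Scheme.{u})) z t]⟩

theorem loc_sp (R : Type u) [CommRing R] [Algebra k R] [IsLocalRing R] : Loc (sp (k := k) R) :=
  ⟨IsLocalRing.closedPoint R, fun z => IsLocalRing.specializes_closedPoint z⟩

variable {G X : Over (Spec (CommRingCat.of k))} [GrpObj G] {a : AlgGrp.Action G X}

theorem Loc.exists_chart {T : Over (Spec (CommRingCat.of k))} (hT : Loc T) (B : GLinSh.LinBun G a) (p : T ⟶ X) :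
    ∃ (U : X.left.Opens) (y : Γ(B.V.left, B.π.left ⁻¹ᵁ U)), y ∈ B.atlas.chart U ∧ p.left ⁻¹ᵁ U = ⊤ := by
  obtain ⟨t, ht⟩ := hT
  obtain ⟨U, hU, y, hy⟩ := B.atlas.cover (p.left t)
  exact ⟨U, y, hy, eq_top_iff.2 fun z _ => ((ht z).map p.left.continuous).mem_open U.2 hU⟩

variable (B : GLinSh.LinBun G a)

theorem lift_act_π {T : Over (Spec (CommRingCat.of k))} (d : T ⟶ G) (v : T ⟶ B.V) :
    (lift d v ≫ B.lift.act) ≫ B.π = lift d (v ≫ B.π) ≫ a.act := by
  rw [Category.assoc, B.lift_π, lift_whiskerLeft_assoc]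

/-- `v'` is `s` times `v` in its fibre. -/
def IsMul {T : Over (Spec (CommRingCat.of k))} (v v' : T ⟶ B.V) (s : Γ(T.left, ⊤)) : Prop :=
  v' ≫ B.π = v ≫ B.π ∧ ∃ (U : X.left.Opens) (y : Γ(B.V.left, B.π.left ⁻¹ᵁ U)) (_ : y ∈ B.atlas.chart U)
    (h : ⊤ ≤ v.left ⁻¹ᵁ (B.π.left ⁻¹ᵁ U)) (h' : ⊤ ≤ v'.left ⁻¹ᵁ (B.π.left ⁻¹ᵁ U)),
      HMNum.evalFn B.π y v' h' = s * HMNum.evalFn B.π y v h

theorem IsMul.translate {T : Over (Spec (CommRingCat.of k))} (hT : Loc T) {v v' : T ⟶ B.V} {s : Γ(T.left, ⊤)}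
    (h : IsMul B v v' s) (d : T ⟶ G) : IsMul B (lift d v ≫ B.lift.act) (lift d v' ≫ B.lift.act) s := by
  obtain ⟨hπ, U, y, hy, h1, h1', he⟩ := h
  refine ⟨by rw [lift_act_π, lift_act_π, hπ], ?_⟩
  obtain ⟨U', y', hy', hU'⟩ := hT.exists_chart B ((lift d v ≫ B.lift.act) ≫ B.π)
  have hv2 : ⊤ ≤ (lift d v ≫ B.lift.act).left ⁻¹ᵁ (B.π.left ⁻¹ᵁ U') := hU'.ge
  have hv2' : ⊤ ≤ (lift d v' ≫ B.lift.act).left ⁻¹ᵁ (B.π.left ⁻¹ᵁ U') := by
    have e : ((lift d v' ≫ B.lift.act) ≫ B.π).left ⁻¹ᵁ U' = ⊤ := by rw [lift_act_π, hπ, ← lift_act_π, hU']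
    exact e.ge
  obtain ⟨c, hc⟩ := HMNum19.exists_eval_act B.lift_linear hy hy' d (v ≫ B.π) (eq_top_iff.2 h1)
    (by rw [← lift_act_π]; exact hU')
  refine ⟨U', y', hy', hv2, hv2', ?_⟩
  rw [hc v' hπ h1' hv2', hc v rfl h1 hv2, he]
  ring

/-- Homogeneous of degree `n` on the fibres. -/
def Homog (n : ℕ) (f : Γ(B.V.left, ⊤)) : Prop :=
  ∀ ⦃T : Over (Spec (CommRingCat.of k))⦄, Loc T → ∀ (v v' : T ⟶ B.V) (s : Γ(T.left, ⊤)), IsMul B v v' s →
    v'.left.appTop f = s ^ n * v.left.appTop f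

theorem appTop_of_weight {n : ℕ} {f : Γ(B.V.left, ⊤)} {U : X.left.Opens} {y : Γ(B.V.left, B.π.left ⁻¹ᵁ U)}
    {c : Γ(X.left, U)} (hf : GLinSh.resTop B.π U f = B.π.left.app U c * y ^ n)
    {T : Over (Spec (CommRingCat.of k))} (v : T ⟶ B.V) (h : ⊤ ≤ v.left ⁻¹ᵁ (B.π.left ⁻¹ᵁ U)) :
    v.left.appTop f = (v ≫ B.π).left.appLE U ⊤ h c * HMNum.evalFn B.π y v h ^ n := by
  have e := congrArg (v.left.appLE (B.π.left ⁻¹ᵁ U) ⊤ h) hf
  rw [GLinSh.resTop, map_mul, map_pow, ← CommRingCat.comp_apply, Scheme.Hom.map_appLE] at e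
  rw [Scheme.Hom.app_eq_appLE, ← CommRingCat.comp_apply, Scheme.Hom.appLE_comp_appLE] at e
  refine Eq.trans ?_ e
  exact ConcreteCategory.congr_hom (v.left.app_eq_appLE (U := ⊤)) f

theorem homog_of_hasWeight {n : ℕ} {f : Γ(B.V.left, ⊤)} (hf : GLinSh.HasWeight B.atlas.chart n f) :
    Homog B n f := by
  rintro T hT v v' s ⟨hπ, U, y, hy, h, h', he⟩
  obtain ⟨c, hc⟩ := hf U y hy
  rw [appTop_of_weight B hc v h, appTop_of_weight B hc v' h', he, mul_pow]
  have e : (v' ≫ B.π).left.appLE U ⊤ h' = (v ≫ B.π).left.appLE U ⊤ h :=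
    HMNum19.appLE_congr (congrArg (fun q : T ⟶ X => q.left) hπ) _
  rw [e]
  ring

/-- Homogeneous functions of degree `n`. -/
def homogS (n : ℕ) : Submodule k Γ(B.V.left, ⊤) where
  carrier := {f | Homog B n f}
  zero_mem' := fun T _ v v' s _ => by simp
  add_mem' := fun {f g} hf hg T hT v v' s h => by
    rw [map_add, map_add, hf hT v v' s h, hg hT v v' s h, mul_add]
  smul_mem' := fun c f hf T hT v v' s h => by
    rw [appTop_smul, appTop_smul, hf hT v v' s h, mul_smul_comm]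

/-- The operator of a rational point. -/
def Op (d : 𝟙_ (Over (Spec (CommRingCat.of k))) ⟶ G) : Γ(B.V.left, ⊤) →ₗ[k] Γ(B.V.left, ⊤) where
  toFun f := (lift (toUnit B.V ≫ d) (𝟙 B.V) ≫ B.lift.act).left.appTop f
  map_add' _ _ := map_add _ _ _
  map_smul' c f := appTop_smul _ c f

theorem app_Op (d : 𝟙_ (Over (Spec (CommRingCat.of k))) ⟶ G) {T : Over (Spec (CommRingCat.of k))} (v : T ⟶ B.V)
    (f : Γ(B.V.left, ⊤)) :
    v.left.appTop (Op B d f) = (lift (toUnit T ≫ d) v ≫ B.lift.act).left.appTop f := by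
  show v.left.appTop ((lift (toUnit B.V ≫ d) (𝟙 B.V) ≫ B.lift.act).left.appTop f) = _
  rw [← CommRingCat.comp_apply, ← Scheme.Hom.comp_appTop, ← Over.comp_left, comp_lift_assoc,
    Category.comp_id, comp_toUnit_assoc]

theorem Op_apply (d : 𝟙_ (Over (Spec (CommRingCat.of k))) ⟶ G) (f : Γ(B.V.left, ⊤)) :
    Op B d f = (lift (toUnit B.V ≫ d) (𝟙 B.V) ≫ B.lift.act).left.appTop f := rfl

theorem Op_Op (d d' : 𝟙_ (Over (Spec (CommRingCat.of k))) ⟶ G) (f : Γ(B.V.left, ⊤)) :
    Op B d (Op B d' f) = Op B (d' * d) f := by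
  rw [Op_apply B d, app_Op, Op_apply, MonObj.comp_mul, AlgGrpBasic19.act_mul]

theorem Op_one (f : Γ(B.V.left, ⊤)) : Op B 1 f = f := by
  rw [Op_apply, MonObj.comp_one, AlgGrpBasic19.act_one]
  simp

theorem Op_mem {n : ℕ} {f : Γ(B.V.left, ⊤)} (hf : Homog B n f) (d : 𝟙_ (Over (Spec (CommRingCat.of k))) ⟶ G) :
    Homog B n (Op B d f) := fun T hT v v' s h => by
  rw [app_Op, app_Op]
  exact hf hT _ _ s (h.translate B hT _)

/-- `f` is an eigenfunction of exponent `e` for the one-parameter subgroup `l`. -/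
def Eig (l : Red.Gm (Spec (CommRingCat.of k)) ⟶ G) (f : Γ(B.V.left, ⊤)) (e : ℤ) : Prop :=
  ∀ (T : Over (Spec (CommRingCat.of k))) (g : T ⟶ Red.Gm (Spec (CommRingCat.of k))) (v : T ⟶ B.V),
    (lift (g ≫ l) v ≫ B.lift.act).left.appTop f = zp g e * v.left.appTop f

theorem Eig.mul {l₁ l₂ : Red.Gm (Spec (CommRingCat.of k)) ⟶ G} {f : Γ(B.V.left, ⊤)} {e₁ e₂ : ℤ}
    (h₁ : Eig B l₁ f e₁) (h₂ : Eig B l₂ f e₂) : Eig B (l₁ * l₂) f (e₁ + e₂) := by
  intro T g v
  rw [MonObj.comp_mul, AlgGrpBasic19.act_mul, h₁, h₂, zp_add, _root_.mul_assoc]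

theorem Eig.unique [Infinite k] {l : Red.Gm (Spec (CommRingCat.of k)) ⟶ G} {f : Γ(B.V.left, ⊤)} (hf : f ≠ 0)
    {e e' : ℤ} (h : Eig B l f e) (h' : Eig B l f e') : e = e' := by
  refine eq_of_pow_eq (k := k) fun u => Units.ext ?_
  have key : ∀ {e : ℤ}, Eig B l f e → Op B (ptU u ≫ l) f = ((u ^ e : kˣ) : k) • f := by
    intro e h
    rw [Op_apply, ← Category.assoc, h, zp_nat, zp_ptU, str_nat, smul_eq_str]
    simp
  exact smul_left_injective k hf ((key h).symm.trans (key h'))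

theorem isAffine_Gm : IsAffine (Red.Gm (Spec (CommRingCat.of k))).left := by
  haveI : IsAffineHom (Red.Gm (Spec (CommRingCat.of k))).hom :=
    MorphismProperty.pullback_snd _ _ (inferInstanceAs (IsAffineHom (Spec.map _)))
  exact isAffine_of_isAffineHom (Red.Gm (Spec (CommRingCat.of k))).hom

theorem compactSpace_V [CompactSpace X.left] : CompactSpace B.V.left := by
  haveI := B.atlas.affine
  refine ⟨?_⟩
  have := B.π.left.isCompact_preimage (U := ⊤) CompactSpace.isCompact_univ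
  simpa using this

/-- The sections of a product, with values in the global sections. -/
def thetaT (V S : Over (Spec (CommRingCat.of k))) :
    Γ(V.left, ⊤) ⊗[k] Γ(S.left, ⊤) →+* Γ((V ⊗ S).left, ⊤) := (HomSch19.theta V S ⊤).toRingHom

/-- Pullback of a product decomposition along a pair of points. -/
theorem pair_theta {V S T : Over (Spec (CommRingCat.of k))} (v : T ⟶ V) (g : T ⟶ S)
    (x : Γ(V.left, ⊤)) (s : Γ(S.left, ⊤)) :
    (lift v g).left.appTop (thetaT V S (x ⊗ₜ s)) = v.left.appTop x * g.left.appTop s := by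
  rw [show thetaT V S (x ⊗ₜ s) = _ from HomSch19.theta_tmul V S ⊤ x s]
  show (lift v g).left.appTop ((fst V S).left.appLE ⊤ ⊤ le_top x * (snd V S).left.appLE ⊤ ⊤ le_top s) = _
  rw [map_mul]
  simp only [← Scheme.Hom.app_eq_appLE (U := (⊤ : V.left.Opens))]
  congr 1
  · rw [← congrArg (fun p : T ⟶ V => p.left.appTop x) (lift_fst v g)]
    simp only [Over.comp_left, Scheme.Hom.comp_appTop, CommRingCat.comp_apply]
    congr 1
    exact ConcreteCategory.congr_hom ((fst V S).left.app_eq_appLE (U := ⊤)).symm x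
  · rw [← congrArg (fun p : T ⟶ S => p.left.appTop s) (lift_snd v g)]
    simp only [Over.comp_left, Scheme.Hom.comp_appTop, CommRingCat.comp_apply]
    congr 1
    exact ConcreteCategory.congr_hom ((snd V S).left.app_eq_appLE (U := ⊤)).symm s

/-- The coefficients of a function along a morphism from the multiplicative group. -/
theorem exists_expansion [CompactSpace X.left] (l : Red.Gm (Spec (CommRingCat.of k)) ⟶ G) (f : Γ(B.V.left, ⊤)) :
    ∃ h : ℤ →₀ Γ(B.V.left, ⊤), ∀ (T : Over (Spec (CommRingCat.of k))) (g : T ⟶ Red.Gm _) (v : T ⟶ B.V),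
      (lift (g ≫ l) v ≫ B.lift.act).left.appTop f = h.sum fun n x => zp g n * v.left.appTop x := by
  haveI := compactSpace_V B
  haveI := isAffine_Gm (k := k)
  obtain ⟨z, hz⟩ := (HomSch19.theta_bijective B.V (Red.Gm (Spec (CommRingCat.of k)))).2
    ((lift (snd B.V (Red.Gm _) ≫ l) (fst _ _) ≫ B.lift.act).left.appTop f)
  suffices H : ∀ z, ∃ h : ℤ →₀ Γ(B.V.left, ⊤), ∀ (T : Over (Spec (CommRingCat.of k))) (g : T ⟶ Red.Gm _)
      (v : T ⟶ B.V), (lift v g).left.appTop (thetaT B.V (Red.Gm (Spec (CommRingCat.of k))) z) =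
      h.sum fun n x => zp g n * v.left.appTop x by
    obtain ⟨h, hh⟩ := H z
    refine ⟨h, fun T g v => ?_⟩
    rw [← hh T g v, show thetaT B.V (Red.Gm _) z = _ from hz, ← CommRingCat.comp_apply, ← Scheme.Hom.comp_appTop, ← Over.comp_left, comp_lift_assoc,
      lift_snd_assoc, lift_fst]
  intro z
  induction z using TensorProduct.induction_on with
  | zero => exact ⟨0, fun T g v => by rw [map_zero, map_zero]; simp⟩
  | tmul x s =>
    obtain ⟨c, hc⟩ := exists_expand s
    refine ⟨c.mapRange (fun r => r • x) (zero_smul k x), fun T g v => ?_⟩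
    rw [pair_theta, hc, ev, Finsupp.mul_sum, Finsupp.sum_mapRange_index (fun _ => by simp)]
    refine Finsupp.sum_congr fun n _ => ?_
    rw [appTop_smul, smul_eq_str]
    ring
  | add z z' hz hz' =>
    obtain ⟨h, hh⟩ := hz
    obtain ⟨h', hh'⟩ := hz'
    refine ⟨h + h', fun T g v => ?_⟩
    rw [Finsupp.sum_add_index' (fun _ => by simp) (fun _ _ _ => by rw [map_add, mul_add]), map_add, map_add,
      hh T g v, hh' T g v]

/-- The translates of a function span a finite-dimensional space. -/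
theorem exists_finite_translates [CompactSpace X.left] [IsAffine G.left] (f : Γ(B.V.left, ⊤)) :
    ∃ W : Submodule k Γ(B.V.left, ⊤), W.FG ∧ ∀ d, Op B d f ∈ W := by
  haveI := compactSpace_V B
  obtain ⟨z, hz⟩ := (HomSch19.theta_bijective B.V G).2
    ((lift (snd B.V G) (fst _ _) ≫ B.lift.act).left.appTop f)
  suffices H : ∀ z, ∃ W : Submodule k Γ(B.V.left, ⊤), W.FG ∧ ∀ d : 𝟙_ (Over (Spec (CommRingCat.of k))) ⟶ G,
      (lift (𝟙 B.V) (toUnit _ ≫ d)).left.appTop (thetaT B.V G z) ∈ W by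
    obtain ⟨W, hW, hmem⟩ := H z
    refine ⟨W, hW, fun d => ?_⟩
    have := hmem d
    rwa [show thetaT B.V G z = _ from hz, ← CommRingCat.comp_apply, ← Scheme.Hom.comp_appTop, ← Over.comp_left, comp_lift_assoc,
      lift_snd, lift_fst] at this
  intro z
  induction z using TensorProduct.induction_on with
  | zero => exact ⟨⊥, Submodule.fg_bot, fun d => by rw [map_zero, map_zero]; exact Submodule.zero_mem _⟩
  | tmul x s =>
    refine ⟨k ∙ x, Submodule.fg_span_singleton x, fun d => ?_⟩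
    rw [pair_theta]
    have e : (toUnit B.V ≫ d).left.appTop s = str B.V (kv (d.left.appTop s)) := by
      rw [← str_nat (toUnit B.V), str_kv]
      simp [Scheme.Hom.comp_appTop]
      try rfl
    rw [e, _root_.mul_comm, ← smul_eq_str]
    have : (𝟙 B.V : B.V ⟶ B.V).left.appTop x = x := by simp
    rw [this]
    exact Submodule.smul_mem _ _ (Submodule.mem_span_singleton_self x)
  | add z z' hz hz' =>
    obtain ⟨W, hW, hm⟩ := hz
    obtain ⟨W', hW', hm'⟩ := hz'
    refine ⟨W ⊔ W', hW.sup hW', fun d => ?_⟩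
    rw [map_add, map_add]
    exact Submodule.add_mem_sup (hm d) (hm' d)

end Groth.Agent.WtMu19
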