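import Groth.Agent.Lib.FixLine19
import Groth.Agent.Lib.BddFin29.Gm
import Mathlib.RingTheory.LaurentSeries
import Mathlib.LinearAlgebra.LinearIndependent.Defs
import Mathlib.FieldTheory.IsAlgClosed.Basic

/-! # Functions on the multiplicative group -/

set_option autoImplicit false
set_option linter.style.haveILetI false
set_option backward.isDefEq.respectTransparency.types false
universe u

open CategoryTheory Limits MonoidalCategory CartesianMonoidalCategory MonObj AlgebraicGeometry

noncomputable section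

namespace Groth.Agent.WtMu19

open FixLine19 (sp str)

variable {k : Type u} [Field k]

local notation "S₀" => Spec (CommRingCat.of k)

theorem str_nat {T T' : Over S₀} (t : T' ⟶ T) (c : k) : t.left.appTop (str T c) = str T' c := by
  show ((Scheme.ΓSpecIso (CommRingCat.of k)).inv ≫ T.hom.appTop ≫ t.left.appTop) c = _
  rw [← Scheme.Hom.comp_appTop, Over.w]

/-- An element as a global function. -/
def elH {R : Type u} [CommRing R] [Algebra k R] : R →+* Γ((sp (k := k) R).left, ⊤) :=
  (Scheme.ΓSpecIso (CommRingCat.of R)).inv.hom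

theorem str_sp {R : Type u} [CommRing R] [Algebra k R] (c : k) :
    str (sp (k := k) R) c = elH (algebraMap k R c) :=
  (ConcreteCategory.congr_hom (Scheme.ΓSpecIso_inv_naturality (CommRingCat.ofHom (algebraMap k R))) c).symm

theorem el_injective {R : Type u} [CommRing R] [Algebra k R] :
    Function.Injective (elH (k := k) (R := R)) :=
  (ConcreteCategory.bijective_of_isIso (Scheme.ΓSpecIso (CommRingCat.of R)).inv).1

theorem el_surjective {R : Type u} [CommRing R] [Algebra k R] :
    Function.Surjective (elH (k := k) (R := R)) :=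
  (ConcreteCategory.bijective_of_isIso (Scheme.ΓSpecIso (CommRingCat.of R)).inv).2

/-- The value at a rational point. -/
def kv : Γ((𝟙_ (Over S₀)).left, ⊤) ≃+* k :=
  (Scheme.ΓSpecIso (CommRingCat.of k)).commRingCatIsoToRingEquiv

theorem kv_str (c : k) : kv (str (𝟙_ (Over S₀)) c) = c := by
  show (((Scheme.ΓSpecIso (CommRingCat.of k)).inv ≫ (𝟙 _ : S₀ ⟶ S₀).appTop) ≫
    (Scheme.ΓSpecIso (CommRingCat.of k)).hom) c = c
  simp

theorem str_kv (x : Γ((𝟙_ (Over S₀)).left, ⊤)) : str (𝟙_ (Over S₀)) (kv x) = x := by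
  apply (kv (k := k)).injective
  rw [kv_str]

/-- The powers of the coordinate. -/
def zp {T : Over S₀} (g : T ⟶ Red.Gm S₀) (n : ℤ) : Γ(T.left, ⊤) :=
  ((GmPts.unitOfPt g ^ n : (Γ(T.left, ⊤))ˣ) : Γ(T.left, ⊤))

theorem zp_nat {T T' : Over S₀} (t : T' ⟶ T) (g : T ⟶ Red.Gm S₀) (n : ℤ) :
    zp (t ≫ g) n = t.left.appTop (zp g n) := by
  rw [zp, zp, GmPts.unitOfPt_comp, ← map_zpow]
  rfl

theorem zp_add {T : Over S₀} (g : T ⟶ Red.Gm S₀) (m n : ℤ) : zp g (m + n) = zp g m * zp g n := by
  rw [zp, zp, zp, zpow_add, Units.val_mul]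

theorem zp_zero {T : Over S₀} (g : T ⟶ Red.Gm S₀) : zp g 0 = 1 := by simp [zp]

theorem zp_one {T : Over S₀} (g : T ⟶ Red.Gm S₀) : zp g 1 = Red.gmFn g := by simp [zp, GmPts.val_unitOfPt]

theorem isUnit_zp {T : Over S₀} (g : T ⟶ Red.Gm S₀) (n : ℤ) : IsUnit (zp g n) := Units.isUnit _

/-- The rational point of a unit. -/
def ptU (u : kˣ) : 𝟙_ (Over S₀) ⟶ Red.Gm S₀ := GmPts.ptOfUnit (Units.map (str (𝟙_ (Over S₀))).toMonoidHom u)

theorem ptU_mul (u u' : kˣ) : ptU (k := k) (u * u') = ptU u * ptU u' := by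
  rw [ptU, map_mul, GmPts.ptOfUnit_mul]; rfl

theorem ptU_one : ptU (k := k) 1 = 1 := by rw [ptU, map_one, GmPts.ptOfUnit_one]

theorem zp_ptU (u : kˣ) (n : ℤ) : zp (ptU u) n = str (𝟙_ (Over S₀)) ((u ^ n : kˣ) : k) := by
  rw [zp, ptU, GmPts.unitOfPt_ptOfUnit, ← map_zpow]
  rfl

/-- A Laurent polynomial evaluated at a point. -/
def ev {T : Over S₀} (g : T ⟶ Red.Gm S₀) (c : ℤ →₀ k) : Γ(T.left, ⊤) := c.sum fun n a => str T a * zp g n

theorem ev_nat {T T' : Over S₀} (t : T' ⟶ T) (g : T ⟶ Red.Gm S₀) (c : ℤ →₀ k) :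
    t.left.appTop (ev g c) = ev (t ≫ g) c := by
  rw [ev, ev, map_finsuppSum]
  refine Finsupp.sum_congr fun n _ => ?_
  rw [map_mul, str_nat, zp_nat]

theorem kv_ev (u : kˣ) (c : ℤ →₀ k) : kv (ev (ptU u) c) = c.sum fun n a => a * ((u ^ n : kˣ) : k) := by
  rw [ev, map_finsuppSum]
  refine Finsupp.sum_congr fun n _ => ?_
  rw [zp_ptU, map_mul, kv_str, kv_str]

/-- Every function on the multiplicative group is a Laurent polynomial in the coordinate. -/
theorem exists_expand (F : Γ((Red.Gm S₀).left, ⊤)) :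
    ∃ c : ℤ →₀ k, ∀ (T : Over S₀) (g : T ⟶ Red.Gm S₀), g.left.appTop F = ev g c := by
  obtain ⟨f, hf, hz⟩ := BddFin29.exists_coord_gm (K := k)
  haveI := hf
  let gu : Red.Gm S₀ ⟶ Red.Gm S₀ := 𝟙 _
  obtain ⟨r, hr⟩ := el_surjective (k := k) (R := Localization.Away (Polynomial.X : Polynomial k)) (f.left.appTop F)
  obtain ⟨m, p, hpm⟩ := IsLocalization.Away.surj (Polynomial.X : Polynomial k) r
  -- coordinates on the model
  have hX : elH (k := k) (algebraMap (Polynomial k) (Localization.Away (Polynomial.X : Polynomial k)) Polynomial.X)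
      = zp f 1 := by
    rw [zp_one, ← Category.id_comp f, hz]
    simp [BddFin29.spFn, elH]
    try rfl
  have hp : elH (k := k) (algebraMap (Polynomial k) (Localization.Away (Polynomial.X : Polynomial k)) p) =
      ∑ i ∈ p.support, str _ (p.coeff i) * zp f i := by
    conv_lhs => rw [p.as_sum_support_C_mul_X_pow]
    rw [map_sum, map_sum]
    refine Finset.sum_congr rfl fun i _ => ?_
    rw [map_mul, map_mul, map_pow, map_pow, hX, str_sp, IsScalarTower.algebraMap_apply k (Polynomial k)]
    congr 1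
    simp [zp]
  let c : ℤ →₀ k := ∑ i ∈ p.support, Finsupp.single ((i : ℤ) - m) (p.coeff i)
  refine ⟨c, fun T g => ?_⟩
  suffices key : f.left.appTop F = ev f c by
    have e : g = (g ≫ inv f) ≫ f := by rw [Category.assoc, IsIso.inv_hom_id, Category.comp_id]
    conv_rhs => rw [e, ← ev_nat, ← key]
    conv_lhs => rw [e, Over.comp_left, Scheme.Hom.comp_appTop]
    rfl
  have hc : ev f c * zp f m = ∑ i ∈ p.support, str _ (p.coeff i) * zp f i := by
    rw [ev, ← Finsupp.sum_finset_sum_index (fun _ => by rw [map_zero, zero_mul])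
      (fun _ _ _ => by rw [map_add, add_mul]), Finset.sum_mul]
    refine Finset.sum_congr rfl fun i _ => ?_
    rw [Finsupp.sum_single_index (by rw [map_zero, zero_mul]), _root_.mul_assoc, ← zp_add, sub_add_cancel]
  have hzm : zp f m = elH (k := k)
      (algebraMap (Polynomial k) (Localization.Away (Polynomial.X : Polynomial k)) Polynomial.X ^ m) := by
    rw [map_pow, hX]; simp [zp]
  apply (isUnit_zp f m).mul_left_inj.1
  rw [hc, ← hp, ← hpm, map_mul, hr, hzm]

theorem exists_expand_point {T : Over S₀} (g : T ⟶ Red.Gm S₀) (F : Γ((Red.Gm S₀).left, ⊤)) :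
    ∃ c : ℤ →₀ k, g.left.appTop F = ev g c := by
  obtain ⟨c, hc⟩ := exists_expand F
  exact ⟨c, hc T g⟩

variable [Infinite k]

theorem eq_of_pow_eq {m n : ℤ} (h : ∀ u : kˣ, u ^ m = u ^ n) : m = n := by
  by_contra hne
  have hd : (m - n).natAbs ≠ 0 := by omega
  have h1 : ∀ u : kˣ, u ^ (m - n).natAbs = 1 := fun u => by
    have : u ^ (m - n) = 1 := by rw [zpow_sub, h u, mul_inv_cancel]
    rcases Int.natAbs_eq (m - n) with e | e
    · rw [← zpow_natCast, ← e, this]
    · rw [← zpow_natCast, show ((m - n).natAbs : ℤ) = -(m - n) by omega, zpow_neg, this, inv_one]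
  let P : Polynomial k := Polynomial.X * (Polynomial.X ^ (m - n).natAbs - 1)
  have hP : P = 0 := Polynomial.funext fun x => by
    by_cases hx : x = 0
    · simp [P, hx]
    · have := congrArg Units.val (h1 (Units.mk0 x hx))
      simp only [Units.val_pow_eq_pow_val, Units.val_mk0, Units.val_one] at this
      simp [P, this]
  exact (mul_ne_zero Polynomial.X_ne_zero (Polynomial.X_pow_sub_C_ne_zero (Nat.pos_of_ne_zero hd) (1 : k)))
    (by simpa [P] using hP)

/-- The characters of `kˣ`. -/
theorem linearIndependent_pow :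
    LinearIndependent k (fun n : ℤ => fun u : kˣ => ((u ^ n : kˣ) : k)) :=
  (linearIndependent_monoidHom kˣ k).comp
    (fun n : ℤ => (Units.coeHom k).comp (zpowGroupHom n : kˣ →* kˣ)) fun m n h =>
      eq_of_pow_eq fun u => Units.ext (DFunLike.congr_fun h u)

theorem sum_pow_smul_ext {M : Type*} [AddCommGroup M] [Module k M] {c d : ℤ →₀ M}
    (h : ∀ u : kˣ, (c.sum fun n a => ((u ^ n : kˣ) : k) • a) = d.sum fun n a => ((u ^ n : kˣ) : k) • a) :
    c = d := by
  have key : ∀ e : ℤ →₀ M, (∀ u : kˣ, (e.sum fun n a => ((u ^ n : kˣ) : k) • a) = 0) → e = 0 := by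
    intro e he
    ext n
    rw [Finsupp.zero_apply, ← Module.forall_dual_apply_eq_zero_iff k (e n)]
    intro φ
    have h0 : Finsupp.linearCombination k (fun n : ℤ => fun u : kˣ => ((u ^ n : kˣ) : k))
        (e.mapRange φ (map_zero φ)) = 0 := by
      funext u
      have := congrArg φ (he u)
      rw [map_zero, map_finsuppSum] at this
      rw [Finsupp.linearCombination_apply, Finsupp.sum_mapRange_index (fun _ => by simp), Pi.zero_apply]
      refine Eq.trans ?_ this
      rw [Finsupp.sum, Finset.sum_apply, Finsupp.sum]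
      refine Finset.sum_congr rfl fun i _ => ?_
      simp [mul_comm]
    have := linearIndependent_iff.1 linearIndependent_pow _ h0
    exact DFunLike.congr_fun this n
  refine sub_eq_zero.1 (key (c - d) fun u => ?_)
  rw [Finsupp.sum_sub_index (fun i a b => smul_sub ((u ^ i : kˣ) : k) a b), h u, sub_self]

theorem ev_eq_pow {c : ℤ →₀ k} {e : ℤ} (h : ∀ u : kˣ, kv (ev (ptU u) c) = ((u ^ e : kˣ) : k)) :
    c = Finsupp.single e 1 := by
  refine sum_pow_smul_ext (k := k) fun u => ?_
  rw [Finsupp.sum_single_index (by simp), smul_eq_mul, _root_.mul_one, ← h, kv_ev]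
  simp [mul_comm]

/-- A multiplicative Laurent polynomial is a monomial. -/
theorem exists_eq_single {c : ℤ →₀ k} (h1 : kv (ev (ptU 1) c) = 1)
    (hm : ∀ u u' : kˣ, kv (ev (ptU (u * u')) c) = kv (ev (ptU u) c) * kv (ev (ptU u') c)) :
    ∃ e : ℤ, c = Finsupp.single e 1 := by
  let χ : kˣ → k := fun u => kv (ev (ptU u) c)
  have hc : ∀ n, c n ≠ 0 → ∀ u : kˣ, χ u = ((u ^ n : kˣ) : k) := by
    intro n hn u
    have h2 : χ u • c = c.sum fun m a => Finsupp.single m (((u ^ m : kˣ) : k) * a) := by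
      refine sum_pow_smul_ext (k := k) fun u' => ?_
      have e1 : (Finsupp.sum (χ u • c) fun n a => ((u' ^ n : kˣ) : k) • a) = χ u * χ u' := by
        rw [Finsupp.sum_smul_index' (fun _ => smul_zero _), show χ u' = _ from kv_ev u' c, Finsupp.mul_sum]
        refine Finsupp.sum_congr fun i _ => ?_
        simp only [smul_eq_mul]; ring
      have e2 : (Finsupp.sum (c.sum fun m a => Finsupp.single m (((u ^ m : kˣ) : k) * a))
          fun n a => ((u' ^ n : kˣ) : k) • a) = χ (u * u') := by
        rw [Finsupp.sum_sum_index (fun _ => smul_zero _) (fun _ _ _ => smul_add _ _ _),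
          show χ (u * u') = _ from kv_ev _ c]
        refine Finsupp.sum_congr fun i _ => ?_
        rw [Finsupp.sum_single_index (by simp), mul_zpow, Units.val_mul, smul_eq_mul]
        ring
      rw [e1, e2]
      exact (hm u u').symm
    have h3 := DFunLike.congr_fun h2 n
    rw [Finsupp.smul_apply, Finsupp.sum_apply, smul_eq_mul, Finsupp.sum,
      Finset.sum_eq_single n (fun b _ hb => by simp [Finsupp.single_apply, hb])
        (fun hb => by simp [Finsupp.notMem_support_iff.1 hb]), Finsupp.single_eq_same] at h3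
    exact mul_right_cancel₀ hn h3
  have hne : c ≠ 0 := by rintro rfl; simp [ev] at h1
  obtain ⟨n, hn⟩ := Finsupp.ne_iff.1 hne
  exact ⟨n, ev_eq_pow fun u => hc n (by simpa using hn) u⟩

end Groth.Agent.WtMu19
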