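import Groth.Agent.Lib.WtMu19.Main
import Mathlib.LinearAlgebra.Finsupp.Span

/-! # A finite covering family of joint eigenfunctions -/

set_option autoImplicit false
set_option linter.style.haveILetI false
set_option backward.isDefEq.respectTransparency.types false
universe u

open CategoryTheory Limits MonoidalCategory CartesianMonoidalCategory MonObj AlgebraicGeometry

noncomputable section

namespace Groth.Agent.WtMu19

open FixLine19 (sp str)

attribute [local instance] HomSch19.algW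

variable {k : Type u} [Field k] [Infinite k]
  {G X : Over (Spec (CommRingCat.of k))} [GrpObj G] {a : AlgGrp.Action G X} (B : GLinSh.LinBun G a)
  {Tt : Over (Spec (CommRingCat.of k))} [GrpObj Tt]

theorem exists_family [IsAffine G.left] (hT : Red.IsTorus Tt) (i : Tt ⟶ G) [IsMonHom i]
    (hB : HMNum.AmpleCover B) :
    ∃ (r : ℕ) (f : Fin r → Γ(B.V.left, ⊤)) (n : Fin r → ℕ), (∀ j, 1 ≤ n j) ∧ (∀ j, f j ≠ 0) ∧
      (∀ j, Good B i (n j) (f j)) ∧ ∀ p : 𝟙_ (Over (Spec (CommRingCat.of k))) ⟶ X, ∃ j, Supp B p (f j) := by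
  classical
  obtain ⟨hc, hcov⟩ := hB
  haveI := hc
  choose n f hn hf hmem U hU hUaff using hcov
  obtain ⟨s, hs⟩ := IsCompact.elim_finite_subcover (isCompact_univ (X := X.left)) (fun z => (U z : Set X.left))
    (fun z => (U z).2) (fun z _ => Set.mem_iUnion.2 ⟨z, by rw [hU z]; exact hmem z⟩)
  have hspan : ∀ z, ∃ F : Finset Γ(B.V.left, ⊤), (↑F : Set _) ⊆ {h | Good B i (n z) h} ∧
      f z ∈ Submodule.span k (↑F : Set Γ(B.V.left, ⊤)) := fun z =>
    Submodule.mem_span_finite_of_mem_span (mem_span_good B hT i (homog_of_hasWeight B (hf z)))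
  choose F hF hfF using hspan
  let I : Type _ := (z : s) × {h : Γ(B.V.left, ⊤) // h ∈ F z.1 ∧ h ≠ 0}
  haveI : ∀ z : s, Finite {h : Γ(B.V.left, ⊤) // h ∈ F z.1 ∧ h ≠ 0} := fun z =>
    Finite.of_injective (fun h => (⟨h.1, h.2.1⟩ : F z.1))
      fun a b h => Subtype.ext (congrArg (fun t : (F z.1 : Finset _) => t.1) h)
  haveI : Finite I := inferInstanceAs (Finite ((_ : s) × _))
  obtain ⟨r, ⟨e⟩⟩ := Finite.exists_equiv_fin I
  refine ⟨r, fun j => (e.symm j).2.1, fun j => n (e.symm j).1.1, fun j => hn _, fun j => (e.symm j).2.2.2,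
    fun j => hF _ (e.symm j).2.2.1, fun p => ?_⟩
  let t : (𝟙_ (Over (Spec (CommRingCat.of k)))).left :=
    (Classical.arbitrary (Spec (CommRingCat.of k) : Scheme.{u}))
  obtain ⟨z, hz, hpz⟩ := Set.mem_iUnion₂.1 (hs (Set.mem_univ (p.left t)))
  obtain ⟨v, hv, hne⟩ := supp_of_nonvanishing B (hf z) (by have := hn z; omega) p t (by rw [← hU z]; exact hpz)
  obtain ⟨h, hhF, hh⟩ : ∃ h ∈ F z, v.left.appTop h ≠ 0 := by
    by_contra hall
    push Not at hall
    apply hne
    refine Submodule.span_induction (p := fun y _ => v.left.appTop y = 0) (fun y hy => hall y hy) (map_zero _)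
      (fun y y' _ _ hy hy' => by rw [map_add, hy, hy', add_zero]) (fun c y _ hy => by rw [appTop_smul, hy, smul_zero])
      (hfF z)
  exact ⟨e ⟨⟨z, hz⟩, h, hhF, fun h0 => hh (by rw [h0, map_zero])⟩, v, hv, by dsimp only; rwa [Equiv.symm_apply_apply]⟩

/-- The exponent of an eigenfunction. -/
def expo (l : Red.Gm (Spec (CommRingCat.of k)) ⟶ G) (f : Γ(B.V.left, ⊤)) : ℤ :=
  open Classical in if h : ∃ e, Eig B l f e then h.choose else 0

omit [Infinite k] in
theorem eig_expo {l : Red.Gm (Spec (CommRingCat.of k)) ⟶ G} {f : Γ(B.V.left, ⊤)} (h : ∃ e, Eig B l f e) :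
    Eig B l f (expo B l f) := by
  classical
  rw [expo, dif_pos h]; exact h.choose_spec

end Groth.Agent.WtMu19
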