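import Groth.Agent.Lib.WtMu19.Base
import Groth.Agent.Lib.Magnet16.AffineLine
import Groth.Agent.Lib.HMNum19.Unique
import Groth.Agent.Lib.HMNum19.Parabolic
import Mathlib.RingTheory.PowerSeries.Basic

/-! # Limits of orbit maps, and the generic points of the multiplicative group and the affine line -/

set_option autoImplicit false
set_option linter.style.haveILetI false
set_option backward.isDefEq.respectTransparency.types false
universe u

open CategoryTheory Limits MonoidalCategory CartesianMonoidalCategory MonObj AlgebraicGeometry Opposite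

noncomputable section

namespace Groth.Agent.WtMu19

open FixLine19 (sp str toSp)
open Magnet16 (sc)

variable {k : Type u} [Field k]

local notation "S₀" => Spec (CommRingCat.of k)

theorem sc_incl {T : Over S₀} (g : T ⟶ Red.Gm S₀) : sc (g ≫ HMNum.incl S₀) = Red.gmFn g := by
  show Magnet16.chS (g ≫ Magnet.AMonS.map S₀ HMNum.plus.subtype) (Multiplicative.ofAdd _) = _
  rw [Magnet16.chS_map]
  rfl

theorem exists_extend_A1 {X : Over S₀} [IsProper X.hom] (o : Red.Gm S₀ ⟶ X) :
    ∃ ψ : HMNum.A1 S₀ ⟶ X, HMNum.incl S₀ ≫ ψ = o := by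
  obtain ⟨f, hf, hz⟩ := BddFin29.exists_coord_gm (K := k)
  haveI := hf
  obtain ⟨ψ', hψ'⟩ := FixLine19.exists_extend (f ≫ o)
  let φ : Polynomial k →+* Γ((HMNum.A1 S₀).left, ⊤) :=
    Polynomial.eval₂RingHom (str _) (sc (𝟙 (HMNum.A1 S₀)))
  let c : HMNum.A1 S₀ ⟶ sp (Polynomial k) := toSp _ φ (by ext a; simp [φ])
  refine ⟨c ≫ ψ', ?_⟩
  rw [← cancel_epi f, ← hψ', ← Category.assoc, ← Category.assoc]
  congr 1
  refine FixLine19.hom_ext_poly _ _ ?_
  simp only [Over.comp_left, Scheme.Hom.comp_appTop, CommRingCat.comp_apply, c]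
  rw [FixLine19.toSp_el, FixLine19.spMap_el]
  simp only [φ, Polynomial.coe_eval₂RingHom, Polynomial.eval₂_X]
  have e := sc_incl (k := k) f
  rw [← Category.comp_id (f ≫ HMNum.incl S₀), Magnet16.sc_nat, Over.comp_left, Scheme.Hom.comp_appTop,
    CommRingCat.comp_apply] at e
  rw [e, ← Category.id_comp f, hz]
  rfl

variable {G X : Over (Spec (CommRingCat.of k))} [GrpObj G]

theorem exists_isLimitPt [IsProper X.hom] (a : AlgGrp.Action G X) (l : Red.Gm S₀ ⟶ G) [IsMonHom l]
    (x : 𝟙_ (Over S₀) ⟶ X) :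
    ∃ ψ : HMNum.A1 S₀ ⟶ X, HMNum.incl S₀ ≫ ψ = lift l (toUnit _ ≫ x) ≫ a.act ∧
      HMNum.IsLimitPt a l x (HMNum.origin S₀ ≫ ψ) := by
  obtain ⟨ψ, hψ⟩ := exists_extend_A1 (lift l (toUnit _ ≫ x) ≫ a.act)
  have univ : ((snd (HMNum.A1 S₀) (Red.Gm S₀) ≫ HMNum.incl S₀) * fst _ _) ≫ ψ =
      lift (snd (HMNum.A1 S₀) (Red.Gm S₀) ≫ l) (fst _ _ ≫ ψ) ≫ a.act := by
    refine HMNum19.ext_incl ?_
    let Q := Red.Gm S₀ ⊗ Red.Gm S₀
    rw [← Category.assoc, MonObj.comp_mul, whiskerRight_fst, whiskerRight_snd_assoc, comp_lift_assoc,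
      whiskerRight_snd_assoc, whiskerRight_fst_assoc, ← MonObj.mul_comp, Category.assoc, hψ, comp_lift_assoc,
      comp_lift_assoc, comp_toUnit_assoc, comp_toUnit_assoc, MonObj.mul_comp, AlgGrpBasic19.act_mul]
  have gen : ∀ (T : Over S₀) (g : T ⟶ Red.Gm S₀) (b : T ⟶ HMNum.A1 S₀),
      ((g ≫ HMNum.incl S₀) * b) ≫ ψ = lift (g ≫ l) (b ≫ ψ) ≫ a.act := by
    intro T g b
    have e := congrArg (lift b g ≫ ·) univ
    simp only [comp_lift_assoc, lift_snd_assoc, lift_fst_assoc, ← Category.assoc (lift b g) (_ * _),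
      MonObj.comp_mul, lift_fst] at e
    exact e
  refine ⟨ψ, hψ, ⟨⟨fst _ _ ≫ ψ, ?_⟩, ?_, ?_⟩⟩
  · rw [Magnet.MonAct.mem_eqvHom_iff]
    intro T g b t
    rw [Magnet.MonAct.lift_restrict_act, Magnet.MonAct.ofAction_act]
    unfold Magnet.subAct
    rw [Magnet.MonAct.lift_restrict_act, Magnet.MonAct.lift_regular_act, lift_fst_assoc, lift_fst_assoc]
    exact gen T g b
  · show lift (toUnit (𝟙_ (Over S₀)) ≫ η[Magnet.AMonS S₀ ↥HMNum.plus]) (𝟙 _) ≫ fst _ _ ≫ ψ = x
    rw [lift_fst_assoc, toUnit_unique (toUnit (𝟙_ (Over S₀))) (𝟙 _), Category.id_comp,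
      ← IsMonHom.one_hom (f := HMNum.incl S₀), Category.assoc, hψ, comp_lift_assoc, IsMonHom.one_hom,
      comp_toUnit_assoc, toUnit_unique (toUnit (𝟙_ (Over S₀))) (𝟙 _), Category.id_comp]
    conv_rhs => rw [← AlgGrpBasic19.act_one a x, Hom.one_def, toUnit_unique (toUnit (𝟙_ (Over S₀))) (𝟙 _),
      Category.id_comp]
  · rw [HMNum.limitPt_eq, lift_fst_assoc, toUnit_unique (toUnit (𝟙_ (Over S₀))) (𝟙 _), Category.id_comp]

variable [Infinite k]

theorem sc_origin : sc (HMNum.origin S₀) = 0 := by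
  obtain ⟨u, hu⟩ : ∃ u : kˣ, (u : k) ≠ 1 := by
    classical
    obtain ⟨c, hc⟩ := Infinite.exists_notMem_finset ({0, 1} : Finset k)
    simp only [Finset.mem_insert, Finset.mem_singleton, not_or] at hc
    exact ⟨Units.mk0 c hc.1, hc.2⟩
  have h := congrArg sc (HMNum19.incl_mul_origin (k := k) (ptU u))
  rw [Magnet16.sc_mul, sc_incl, toUnit_unique (toUnit (𝟙_ (Over S₀))) (𝟙 _), Category.id_comp,
    ← zp_one, zp_ptU, zpow_one, ← sub_eq_zero, ← sub_one_mul, ← map_one (str (𝟙_ (Over S₀))), ← map_sub] at h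
  exact ((IsUnit.mk0 _ (sub_ne_zero.2 hu)).map (str (𝟙_ (Over S₀)))).mul_right_eq_zero.1 h

/-- Laurent series. -/
abbrev LS (k : Type u) [Field k] : Type u := LaurentSeries k

/-- Power series. -/
abbrev PS (k : Type u) [Field k] : Type u := PowerSeries k

omit [Infinite k]

theorem isUnit_single : IsUnit (elH (k := k) (R := LS k) (HahnSeries.single (1 : ℤ) (1 : k))) :=
  (IsUnit.of_mul_eq_one (HahnSeries.single (-1 : ℤ) (1 : k))
    (by rw [HahnSeries.single_mul_single]; simp)).map elH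

/-- The generic point of the multiplicative group. -/
def genG : sp (k := k) (LS k) ⟶ Red.Gm S₀ := GmPts.ptOfUnit isUnit_single.unit

theorem gmFn_genG : Red.gmFn (genG (k := k)) = elH (HahnSeries.single (1 : ℤ) (1 : k)) := by
  rw [genG, GmPts.gmFn_ptOfUnit, IsUnit.unit_spec]

theorem zp_genG (n : ℤ) : zp (genG (k := k)) n = elH (HahnSeries.single n (1 : k)) := by
  have hnat : ∀ m : ℕ, zp (genG (k := k)) m = elH (HahnSeries.single (m : ℤ) (1 : k)) := fun m => by
    rw [zp, zpow_natCast, Units.val_pow_eq_pow_val, GmPts.val_unitOfPt, gmFn_genG, ← map_pow,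
      HahnSeries.single_pow]
    simp
  obtain ⟨m, rfl | rfl⟩ := n.eq_nat_or_neg
  · exact hnat m
  · refine (isUnit_zp genG (m : ℤ)).mul_left_inj.1 ?_
    rw [← zp_add, neg_add_cancel, zp_zero, hnat, ← map_mul, HahnSeries.single_mul_single, neg_add_cancel,
      _root_.one_mul]
    exact (map_one _).symm

/-- The generic point of the affine line. -/
def genA : sp (k := k) (PS k) ⟶ HMNum.A1 S₀ :=
  (Magnet16.sc_surj (T := sp (k := k) (PS k)) (elH PowerSeries.X)).choose

theorem sc_genA : sc (genA (k := k)) = elH PowerSeries.X :=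
  (Magnet16.sc_surj (T := sp (k := k) (PS k)) (elH PowerSeries.X)).choose_spec

/-- Laurent series over power series, as an algebra map. -/
def locHom : PS k →ₐ[k] LS k where
  __ := HahnSeries.ofPowerSeries ℤ k
  commutes' _ := rfl

theorem locHom_apply (p : PS k) : locHom p = HahnSeries.ofPowerSeries ℤ k p := rfl

/-- Laurent series over power series. -/
def locM : sp (k := k) (LS k) ⟶ sp (k := k) (PS k) := FixLine19.spMap (locHom (k := k))

theorem locM_app (p : PS k) : (locM (k := k)).left.appTop (elH p) = elH (HahnSeries.ofPowerSeries ℤ k p) := by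
  rw [locM, ← locHom_apply]
  exact FixLine19.spMap_el (locHom (k := k)) p

theorem locM_genA : locM (k := k) ≫ genA = genG ≫ HMNum.incl S₀ := by
  refine Magnet16.sc_inj ?_
  rw [Magnet16.sc_nat, sc_genA, sc_incl, locM_app, gmFn_genG, HahnSeries.ofPowerSeries_X]

/-- The closed point. -/
def clM : 𝟙_ (Over S₀) ⟶ sp (k := k) (PS k) :=
  toSp _ ((str (𝟙_ (Over S₀))).comp PowerSeries.constantCoeff) (by ext a; simp [PowerSeries.algebraMap_apply])

theorem clM_app (p : PS k) : (clM (k := k)).left.appTop (elH p) = str _ (PowerSeries.constantCoeff p) :=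
  FixLine19.toSp_el _ _ _ p

theorem clM_genA [Infinite k] : clM (k := k) ≫ genA = HMNum.origin S₀ := by
  refine Magnet16.sc_inj ?_
  rw [Magnet16.sc_nat, sc_genA, clM_app, sc_origin, PowerSeries.constantCoeff_X, map_zero]

end Groth.Agent.WtMu19
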